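import Cfsg.Agent.H455.Cov.Tool

/-!
# Elements of the simple group at the top (S2499, helper25)

* `desc` : an element of `R` of order `k` prime to `|R| / |N|` gives an element of `N` of order `k`;
* `false_of_ords` : `R` a proper subgroup of `T`, `r`, `s` primes dividing `|R|`, `r ∥ |T|`, `T` without elements of order
  `r s`; for every name `g` in the list `surv n l r [s]` some element of `R` has an order `k` prime to `n / |g|` which does not
  occur in the group `g`: contradiction.
-/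

set_option autoImplicit false

namespace Cfsg.Agent.H25.Cov

open Subgroup
open Cfsg.Agent.OrdDiv
open Cfsg.Agent.H257.El (Top SitP card_quot_mul sitP_of okPair surv Known)

universe u

section desc

variable {R : Type*} [Group R] {O : Subgroup R} [O.Normal] {N : Subgroup (R ⧸ O)} [N.Normal]

theorem card_mul_index_mul [Finite R] (O : Subgroup R) [O.Normal] (N : Subgroup (R ⧸ O)) :
    Nat.card N * (N.index * Nat.card O) = Nat.card R := by
  rw [← card_quot_mul O, ← Subgroup.card_mul_index N, mul_assoc]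

/-- **elements of order prime to `|R| / |N|` are seen in `N`** -/
theorem desc {k : ℕ} (hk : k.Coprime (N.index * Nat.card O)) {c : R} (hc : orderOf c = k) :
    ∃ z : N, orderOf z = k := by
  have hkO : k.Coprime (Nat.card O) := Nat.Coprime.coprime_mul_left_right hk
  have hkN : k.Coprime N.index := Nat.Coprime.coprime_mul_right_right hk
  set b := QuotientGroup.mk' O c with hb
  have hbk : orderOf b = k := by
    apply Nat.dvd_antisymm
    · rw [← hc]; exact orderOf_map_dvd _ c
    · have h1 : c ^ orderOf b ∈ O := by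
        rw [← QuotientGroup.eq_one_iff]
        show QuotientGroup.mk' O (c ^ orderOf b) = 1
        rw [map_pow, ← hb, pow_orderOf_eq_one]
      have h2 : orderOf (c ^ orderOf b) ∣ Nat.card O := by
        rw [← Subgroup.orderOf_mk (c ^ orderOf b) h1]
        exact orderOf_dvd_natCard _
      have h3 : orderOf (c ^ orderOf b) ∣ k := by
        rw [← hc]; exact orderOf_pow_dvd _
      have h4 : orderOf (c ^ orderOf b) = 1 := Nat.eq_one_of_dvd_coprimes hkO h3 h2
      rw [orderOf_eq_one_iff] at h4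
      rw [← hc]
      exact orderOf_dvd_of_pow_eq_one h4
  have hbN : b ∈ N := by
    rw [← QuotientGroup.eq_one_iff, ← orderOf_eq_one_iff]
    refine Nat.eq_one_of_dvd_coprimes hkN ?_ ?_
    · rw [← hbk]; exact orderOf_map_dvd (QuotientGroup.mk' N) b
    · rw [Subgroup.index_eq_card]
      exact orderOf_dvd_natCard _
  exact ⟨⟨b, hbN⟩, by rw [Subgroup.orderOf_mk, hbk]⟩

end desc

variable {T : Type u} [Group T] [Finite T]

/-- the group with name `g` has no element of order `k` -/
def NoOrd (g : Grp) (k : ℕ) : Prop := ∀ (S : Type u) [Group S] [Finite S], Real g S → ∀ z : S, orderOf z ≠ k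

/-- the check -/
def chkO (n : ℕ) (l : List (ℕ × ℕ)) (r s : ℕ) : Bool := OrdDiv.valid l n && (n % r ^ 2 != 0) && okPair n l r s

/-- the situation of `false_of_ords` -/
theorem exists_sit (tab : OrderTable.{u}) (known : Known.{u}) {n : ℕ} {l : List (ℕ × ℕ)} {r s : ℕ}
    (hn : Nat.card T = n) (hr : r.Prime) (hs : s.Prime) (hno : ∀ z : T, orderOf z ≠ r * s)
    (hchk : chkO n l r s = true) {R : Subgroup T} (hR : R ≠ ⊤) (hrR : r ∣ Nat.card R) (hsR : s ∣ Nat.card R) :
    ∃ (O : Subgroup R) (_ : O.Normal) (N : Subgroup (R ⧸ O)) (_ : N.Normal), SitP T n l r R ∧ Top R r O N ∧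
      (¬ ∀ a b : N, a * b = b * a) ∧ ∃ g ∈ surv n l r [s], Real g N ∧ Nat.card N = ordN g := by
  unfold chkO at hchk
  simp only [Bool.and_eq_true] at hchk
  obtain ⟨⟨h1, h2⟩, h3⟩ := hchk
  have S : SitP T n l r R := sitP_of tab known hn h1 hr h2 hR hrR
  obtain ⟨O, hO, N, h⟩ := S.exists_top
  have h6 := S.dvd_simple h hs hno h3 hsR
  have hrs : r ≠ s := by
    unfold okPair at h3
    rw [Bool.and_eq_true, Bool.and_eq_true, Bool.and_eq_true] at h3
    simpa using h3.1.1.1
  have hna : ¬ ∀ a b : N, a * b = b * a := by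
    intro hc
    rw [h.card_of_comm hc] at h6
    exact hrs ((Nat.prime_dvd_prime_iff_eq hs h.prime).1 h6).symm
  obtain ⟨g, hg, hre, hgc⟩ := S.exists_surv h hna [s] (by
    intro w hw
    rw [List.mem_singleton.1 hw]
    exact h6)
  exact ⟨O, hO, N, h.normal, S, h, hna, g, hg, hre, hgc⟩

/-- **the criterion** -/
theorem false_of_ords (tab : OrderTable.{u}) (known : Known.{u}) {n : ℕ} {l : List (ℕ × ℕ)} {r s : ℕ}
    (hn : Nat.card T = n) (hr : r.Prime) (hs : s.Prime) (hno : ∀ z : T, orderOf z ≠ r * s)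
    (hchk : chkO n l r s = true) {R : Subgroup T} (hR : R ≠ ⊤) (hrR : r ∣ Nat.card R) (hsR : s ∣ Nat.card R)
    (hsurv : ∀ g ∈ surv n l r [s], ∃ k : ℕ, (∃ c ∈ R, orderOf c = k) ∧ k.Coprime (n / ordN g) ∧
      NoOrd.{u} g k) : False := by
  obtain ⟨O, hO, N, hN, S, h, hna, g, hg, hre, hgc⟩ := exists_sit tab known hn hr hs hno hchk hR hrR hsR
  obtain ⟨k, ⟨c, hcR, hck⟩, hk, hng⟩ := hsurv g hg
  have h1 := card_mul_index_mul O N
  have hRn : Nat.card R ∣ n := S.dvd_n
  have h0 : 0 < Nat.card N := Nat.card_pos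
  have h2 : N.index * Nat.card O ∣ n / ordN g := by
    rw [← hgc]
    obtain ⟨t, rfl⟩ := hRn
    rw [← h1, mul_assoc, Nat.mul_div_cancel_left _ h0]
    exact dvd_mul_right _ _
  obtain ⟨z, hz⟩ := desc (N := N) (Nat.Coprime.coprime_dvd_right h2 hk) (c := ⟨c, hcR⟩)
    (by rw [Subgroup.orderOf_mk, hck])
  exact hng N hre z hz

/-- a subgroup which contains a conjugate of `x` has elements of all the orders dividing the order of `x` -/
theorem exists_ord_of_not_av {x : T} {R : Subgroup T} (h : ¬ Cfsg.Agent.H278.Cov.Av x R) {k : ℕ} (hk : k ∣ orderOf x) :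
    ∃ c ∈ R, orderOf c = k := by
  obtain ⟨g, hg⟩ := Cfsg.Agent.H278.Cov.not_av h
  have h1 : orderOf (g * x * g⁻¹) = orderOf x := orderOf_injective (MulAut.conj g).toMonoidHom (MulAut.conj g).injective x
  obtain ⟨j, hj⟩ := hk
  have h0 : 0 < orderOf x := orderOf_pos x
  have hj0 : j ≠ 0 := by
    rintro rfl
    rw [hj] at h0
    omega
  refine ⟨(g * x * g⁻¹) ^ j, R.pow_mem hg j, ?_⟩
  rw [orderOf_pow_of_dvd hj0 (by rw [h1, hj]; exact dvd_mul_left _ _), h1, hj, Nat.mul_div_cancel _
    (Nat.pos_of_ne_zero hj0)]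

theorem dvd_of_not_av {x : T} {R : Subgroup T} (h : ¬ Cfsg.Agent.H278.Cov.Av x R) {k : ℕ} (hk : k ∣ orderOf x) :
    k ∣ Nat.card R := by
  obtain ⟨c, hc, rfl⟩ := exists_ord_of_not_av h hk
  rw [← Subgroup.orderOf_mk c hc]
  exact orderOf_dvd_natCard _

/-- **incompatible classes by orders** -/
theorem inc_of_ords (tab : OrderTable.{u}) (known : Known.{u}) {n : ℕ} {l : List (ℕ × ℕ)} {r s : ℕ}
    (hn : Nat.card T = n) (hr : r.Prime) (hs : s.Prime) (hno : ∀ z : T, orderOf z ≠ r * s)
    (hchk : chkO n l r s = true) {x y : T} (hrx : r ∣ orderOf x) (hsy : s ∣ orderOf y)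
    (hsurv : ∀ g ∈ surv n l r [s], ∃ k : ℕ, (k ∣ orderOf x ∨ k ∣ orderOf y) ∧ k.Coprime (n / ordN g) ∧
      NoOrd.{u} g k) : Cfsg.Agent.H278.Cov.Inc x y := by
  intro R hR
  by_contra hcon
  rw [not_or] at hcon
  refine false_of_ords tab known hn hr hs hno hchk hR (dvd_of_not_av hcon.1 hrx) (dvd_of_not_av hcon.2 hsy) ?_
  intro g hg
  obtain ⟨k, hk, h1, h2⟩ := hsurv g hg
  refine ⟨k, ?_, h1, h2⟩
  rcases hk with hk | hk
  · exact exists_ord_of_not_av hcon.1 hk
  · exact exists_ord_of_not_av hcon.2 hk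

end Cfsg.Agent.H25.Cov
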