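import Cfsg.Agent.H968.TwoPerm
import Cfsg.Agent.H25.Cov.Desc

/-!
# Orders which do not occur in alternating groups (S2499, helper25)
-/

set_option autoImplicit false

namespace Cfsg.Agent.H25.Cov

open Cfsg.Agent.OrdDiv
open Cfsg.Agent.H968.TwoPerm (exists_cycle sum_one sum_two sum_three)

universe u

theorem add_le_mul' {a b : ℕ} (ha : 2 ≤ a) (hb : 2 ≤ b) : a + b ≤ a * b := by nlinarith

/-- two primes -/
theorem perm_two {Ω : Type*} [Fintype Ω] [DecidableEq Ω] (σ : Equiv.Perm Ω) {p q : ℕ} (hp : p.Prime) (hq : q.Prime)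
    (hpq : p ≠ q) (h : p * q ∣ orderOf σ) : p + q ≤ Fintype.card Ω := by
  obtain ⟨c, hc, hd⟩ := exists_cycle (e := 1) hp one_ne_zero σ (by rw [pow_one]; exact dvd_trans (dvd_mul_right _ _) h)
  obtain ⟨c', hc', hd'⟩ := exists_cycle (e := 1) hq one_ne_zero σ (by rw [pow_one]; exact dvd_trans (dvd_mul_left _ _) h)
  rw [pow_one] at hd hd'
  have h2 := Equiv.Perm.two_le_of_mem_cycleType hc
  have h2' := Equiv.Perm.two_le_of_mem_cycleType hc'
  have hs : σ.cycleType.sum ≤ Fintype.card Ω := by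
    rw [Equiv.Perm.sum_cycleType]
    exact Finset.card_le_univ _
  by_cases hcc : c = c'
  · subst hcc
    have h3 := Nat.le_of_dvd (by omega) (Nat.Coprime.mul_dvd_of_dvd_of_dvd ((Nat.coprime_primes hp hq).2 hpq) hd hd')
    have h4 := sum_one hc
    have h5 := add_le_mul' hp.two_le hq.two_le
    omega
  · have h4 := sum_two hc hc' hcc
    have := Nat.le_of_dvd (by omega) hd
    have := Nat.le_of_dvd (by omega) hd'
    omega

/-- three primes -/
theorem perm_three {Ω : Type*} [Fintype Ω] [DecidableEq Ω] (σ : Equiv.Perm Ω) {p q r : ℕ} (hp : p.Prime) (hq : q.Prime)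
    (hr : r.Prime) (hpq : p ≠ q) (hpr : p ≠ r) (hqr : q ≠ r) (h : p * q * r ∣ orderOf σ) :
    p + q + r ≤ Fintype.card Ω := by
  have hpd : p ∣ p * q * r := dvd_mul_of_dvd_left (dvd_mul_right _ _) _
  have hqd : q ∣ p * q * r := dvd_mul_of_dvd_left (dvd_mul_left _ _) _
  have hrd : r ∣ p * q * r := dvd_mul_left _ _
  obtain ⟨a, ha, ha'⟩ := exists_cycle (e := 1) hp one_ne_zero σ (by rw [pow_one]; exact hpd.trans h)
  obtain ⟨b, hb, hb'⟩ := exists_cycle (e := 1) hq one_ne_zero σ (by rw [pow_one]; exact hqd.trans h)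
  obtain ⟨c, hc, hc'⟩ := exists_cycle (e := 1) hr one_ne_zero σ (by rw [pow_one]; exact hrd.trans h)
  rw [pow_one] at ha' hb' hc'
  have ha2 := Equiv.Perm.two_le_of_mem_cycleType ha
  have hb2 := Equiv.Perm.two_le_of_mem_cycleType hb
  have hc2 := Equiv.Perm.two_le_of_mem_cycleType hc
  have hs : σ.cycleType.sum ≤ Fintype.card Ω := by
    rw [Equiv.Perm.sum_cycleType]
    exact Finset.card_le_univ _
  have hpq' := (Nat.coprime_primes hp hq).2 hpq
  have hpr' := (Nat.coprime_primes hp hr).2 hpr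
  have hqr' := (Nat.coprime_primes hq hr).2 hqr
  have h5 := add_le_mul' hp.two_le hq.two_le
  have h6 := add_le_mul' hp.two_le hr.two_le
  have h7 := add_le_mul' hq.two_le hr.two_le
  have la := Nat.le_of_dvd (by omega) ha'
  have lb := Nat.le_of_dvd (by omega) hb'
  have lc := Nat.le_of_dvd (by omega) hc'
  by_cases hab : a = b
  · subst hab
    have h3 := Nat.le_of_dvd (by omega) (Nat.Coprime.mul_dvd_of_dvd_of_dvd hpq' ha' hb')
    by_cases hac : a = c
    · subst hac
      have h8 := Nat.le_of_dvd (by omega) (Nat.Coprime.mul_dvd_of_dvd_of_dvd (Nat.Coprime.mul_left hpr' hqr')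
        (Nat.Coprime.mul_dvd_of_dvd_of_dvd hpq' ha' hb') hc')
      have h9 := sum_one ha
      have h10 : p * q + r ≤ p * q * r := add_le_mul' (by have := hp.two_le; have := hq.two_le; omega) hr.two_le
      omega
    · have h9 := sum_two ha hc hac
      omega
  · by_cases hac : a = c
    · subst hac
      have h3 := Nat.le_of_dvd (by omega) (Nat.Coprime.mul_dvd_of_dvd_of_dvd hpr' ha' hc')
      have h9 := sum_two ha hb hab
      omega
    · by_cases hbc : b = c
      · subst hbc
        have h3 := Nat.le_of_dvd (by omega) (Nat.Coprime.mul_dvd_of_dvd_of_dvd hqr' hb' hc')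
        have h9 := sum_two ha hb hab
        omega
      · have h9 := sum_three ha hb hc hab hac hbc
        omega

theorem noOrd_alt {n p q : ℕ} (hp : p.Prime) (hq : q.Prime) (hpq : p ≠ q) (hn : n < p + q) :
    NoOrd.{u} (.alt n) (p * q) := by
  rintro S _ _ ⟨e⟩ z hz
  have h := perm_two ((e z : alternatingGroup (Fin n)) : Equiv.Perm (Fin n)) hp hq hpq (by
    rw [Subgroup.orderOf_coe, MulEquiv.orderOf_eq, hz])
  rw [Fintype.card_fin] at h
  omega

theorem noOrd_alt3 {n p q r : ℕ} (hp : p.Prime) (hq : q.Prime) (hr : r.Prime) (hpq : p ≠ q) (hpr : p ≠ r) (hqr : q ≠ r)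
    (hn : n < p + q + r) : NoOrd.{u} (.alt n) (p * q * r) := by
  rintro S _ _ ⟨e⟩ z hz
  have h := perm_three ((e z : alternatingGroup (Fin n)) : Equiv.Perm (Fin n)) hp hq hr hpq hpr hqr (by
    rw [Subgroup.orderOf_coe, MulEquiv.orderOf_eq, hz])
  rw [Fintype.card_fin] at h
  omega

end Cfsg.Agent.H25.Cov
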