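import Cfsg.Agent.H25.Cov.Desc
import Cfsg.Agent.H257.El.TopC

/-!
# An element of order `s` of the core centralised modulo the core by the top (S2499, helper25)

* `lift_cent'` : as `Top.lift_cent` of helper257, for `s ∥ |O|`;
* `exists_common` : `s ∥ |O|`: an element of order `s` commuting with elements of all prime orders dividing `|N|`;
* `dvd_core_of_ord` : an element of `R` of order `s t` gives `s ∣ |O|` if `N` has no element of order `s t`.
-/

set_option autoImplicit false

namespace Cfsg.Agent.H25.Cov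

open Subgroup
open Cfsg.Agent.OrdDiv
open Cfsg.Agent.H257.El

variable {R : Type*} [Group R] [Finite R] {r s : ℕ} {O : Subgroup R} [O.Normal] {N : Subgroup (R ⧸ O)}

/-- some element of order `s` has a centralizer which covers `N` -/
theorem lift_cent' (h : Top R r O N) (hs : s.Prime) (hsO : s ∣ Nat.card O) (hs2 : ¬ s ^ 2 ∣ Nat.card O)
    (hna : ¬ ∀ a b : N, a * b = b * a) :
    ∃ y : R, orderOf y = s ∧ ∀ n ∈ N, ∃ g : R, g * y = y * g ∧ QuotientGroup.mk' O g = n := by
  have hs' : Fact s.Prime := ⟨hs⟩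
  have hN := h.normal
  have hsim := h.simple
  obtain ⟨S⟩ : Nonempty (Sylow s O) := inferInstance
  have hfr := Sylow.normalizer_sup_eq_top S
  set P : Subgroup R := (S : Subgroup O).map O.subtype with hP
  have hPp : IsPGroup s P := S.isPGroup'.map _
  obtain ⟨b, hb⟩ := IsPGroup.iff_card.1 hPp
  have hPc : Nat.card P = Nat.card S := by
    rw [hP, Subgroup.card_map_of_injective O.subtype_injective]
  have hb1 : 1 ≤ b := by
    by_contra hb0
    have : b = 0 := by omega
    rw [this, pow_zero] at hb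
    have h3 := S.card_eq_multiplicity
    rw [← hPc, hb] at h3
    have h4 : 1 ≤ (Nat.card O).factorization s := by
      have := (hs.pow_dvd_iff_le_factorization (k := 1) (n := Nat.card O) Nat.card_pos.ne').1 (by rwa [pow_one])
      exact this
    have h5 := Nat.one_lt_pow (n := (Nat.card O).factorization s) (by omega) hs.one_lt
    omega
  have hb2 : b ≤ 1 := by
    by_contra hb3
    apply hs2
    refine (pow_dvd_pow s (show 2 ≤ b by omega)).trans ?_
    rw [← hb, hPc]
    exact Subgroup.card_subgroup_dvd_card (S : Subgroup O)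
  have hbe : b = 1 := by omega
  rw [hbe, pow_one] at hb
  obtain ⟨⟨y, hyP⟩, hy⟩ := exists_prime_orderOf_dvd_card' (G := P) s (by rw [hb])
  rw [Subgroup.orderOf_mk] at hy
  have hPy : P = zpowers y := by
    symm
    apply Subgroup.eq_of_le_of_card_ge
    · rw [zpowers_le]; exact hyP
    · rw [hb, Nat.card_zpowers, hy]
  set M := normalizer (P : Set R) with hM
  let f : M →* (R ⧸ O) := (QuotientGroup.mk' O).comp M.subtype
  have hf : Function.Surjective f := by
    intro q
    obtain ⟨x, rfl⟩ := QuotientGroup.mk'_surjective O q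
    have hx : x ∈ M ⊔ O := by rw [hfr]; trivial
    obtain ⟨m, hm, o, ho, rfl⟩ := Subgroup.mem_sup_of_normal_right.1 hx
    refine ⟨⟨m, hm⟩, ?_⟩
    change QuotientGroup.mk' O m = QuotientGroup.mk' O (m * o)
    rw [map_mul, show QuotientGroup.mk' O o = 1 from (QuotientGroup.eq_one_iff o).2 ho, mul_one]
  have hMy : ∀ m : M, (m : R) * y * (m : R)⁻¹ ∈ zpowers y := by
    intro m
    rw [← hPy]
    exact (mem_normalizer_iff.1 m.2 y).1 hyP
  let K : Subgroup M := (centralizer ({y} : Set R)).subgroupOf M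
  have hKn : K.Normal := by
    refine ⟨fun k hk m => ?_⟩
    rw [mem_subgroupOf, mem_centralizer_singleton_iff] at hk ⊢
    have h1 : ∀ w ∈ zpowers y, (k : R) * w = w * k := by
      intro w hw
      obtain ⟨j, rfl⟩ := mem_zpowers_iff.1 hw
      have h2 : Commute (k : R) y := hk
      exact (h2.zpow_right j).eq
    have h3 := hMy m⁻¹
    have h4 := h1 _ h3
    change (m : R) * k * (m : R)⁻¹ * y = y * ((m : R) * k * (m : R)⁻¹)
    have h5 : (k : R) * ((m : R)⁻¹ * y * m) = ((m : R)⁻¹ * y * m) * k := by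
      have h6 : ((m⁻¹ : M) : R) = (m : R)⁻¹ := rfl
      rw [h6, inv_inv] at h4
      exact h4
    calc (m : R) * k * (m : R)⁻¹ * y = m * (k * ((m : R)⁻¹ * y * m)) * (m : R)⁻¹ := by group
      _ = m * (((m : R)⁻¹ * y * m) * k) * (m : R)⁻¹ := by rw [h5]
      _ = _ := by group
  have hKmn : (K.map f).Normal := hKn.map f hf
  have hle : N ≤ K.map f := by
    have h1 : ((K.map f).subgroupOf N).Normal := inferInstance
    rcases hsim.eq_bot_or_eq_top_of_normal _ h1 with h2 | h2
    · exfalso
      apply hna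
      intro a b
      obtain ⟨g, hg⟩ := hf a
      obtain ⟨k, hk⟩ := hf b
      have h3 : (k * g)⁻¹ * (g * k) ∈ K := by
        rw [mem_subgroupOf, mem_centralizer_singleton_iff]
        exact Top.comm_of_zpowers (hMy g) (hMy k)
      have h4 : (b * a)⁻¹ * (a * b) ∈ (K.map f).subgroupOf N := by
        rw [mem_subgroupOf]
        refine ⟨_, h3, ?_⟩
        rw [map_mul, map_inv, map_mul, map_mul, hg, hk]
        rfl
      rw [h2, mem_bot] at h4
      exact (inv_mul_eq_one.1 h4).symm
    · rw [← subgroupOf_eq_top]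
      exact h2
  refine ⟨y, hy, fun n hn => ?_⟩
  obtain ⟨k, hk, rfl⟩ := hle hn
  rw [SetLike.mem_coe, mem_subgroupOf, mem_centralizer_singleton_iff] at hk
  exact ⟨k, hk, rfl⟩

/-- an element of order `s` commuting with elements of all the prime orders dividing `|N|` -/
theorem exists_common (h : Top R r O N) (hs : s.Prime) (hsO : s ∣ Nat.card O) (hs2 : ¬ s ^ 2 ∣ Nat.card O)
    (hna : ¬ ∀ a b : N, a * b = b * a) :
    ∃ y : R, orderOf y = s ∧ ∀ p : ℕ, p.Prime → p ∣ Nat.card N → ∃ x : R, orderOf x = p ∧ x * y = y * x := by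
  obtain ⟨y, hy, hc⟩ := lift_cent' h hs hsO hs2 hna
  refine ⟨y, hy, fun p hp hd => ?_⟩
  have : Fact p.Prime := ⟨hp⟩
  obtain ⟨n, hn⟩ := exists_prime_orderOf_dvd_card' p hd
  obtain ⟨g, hg, hgn⟩ := hc n n.2
  obtain ⟨j, hj⟩ := exists_lift (QuotientGroup.mk' O) (z := g) (n := p) (by rw [hgn, Subgroup.orderOf_coe, hn])
  have h1 : Commute g y := hg
  exact ⟨g ^ j, hj, (h1.pow_left j).eq⟩

omit [Finite R] in
/-- an element of `R` of order `s t` gives `s ∣ |O|` if `N` has no element of order `s t` and the index is prime to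
`s t` -/
theorem dvd_core_of_ord [N.Normal] {t : ℕ} (hs : s.Prime) (ht : t.Prime) (hi : (s * t).Coprime N.index)
    (htO : ¬ t ∣ Nat.card O) (hN : ∀ z : N, orderOf z ≠ s * t) {c : R} (hc : orderOf c = s * t) :
    s ∣ Nat.card O := by
  by_contra hsO
  have h1 : (s * t).Coprime (N.index * Nat.card O) := by
    refine Nat.Coprime.mul_right hi (Nat.Coprime.mul_left ?_ ?_)
    · exact (Nat.Prime.coprime_iff_not_dvd hs).2 hsO
    · exact (Nat.Prime.coprime_iff_not_dvd ht).2 htO
  obtain ⟨z, hz⟩ := desc (N := N) h1 hc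
  exact hN z hz

end Cfsg.Agent.H25.Cov
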