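import Cfsg.Agent.H25.Cov.NoOrd
import Cfsg.Agent.H25.Cov.AltOrd
import Cfsg.Agent.H25.Cov.Fra
import Cfsg.Agent.S0293
import Cfsg.Agent.S2074
import Cfsg.Agent.H713.Spor.Tool
import Cfsg.Agent.StandardComponent.AltAut
import Cfsg.Agent.OddHalf.Table.OutSuz
import Cfsg.Agent.NotCT.Orders

/-!
# S2499: the group `Ω⁺₁₄(2)` (helper25)

Elements of orders 127, 65, 165.
-/

set_option autoImplicit false

namespace Cfsg.Agent.H25.Cov

open Cfsg Cfsg.Agent.OrdDiv Cfsg.Agent.H278.Cov Cfsg.Agent.H455.Cov Module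
open Cfsg.Agent.H257.El (Top SitP)
open Cfsg.Agent.LieClassical.OrthCore (Nondeg)
open Cfsg.Agent.LieClassical.OrthForms

/-! ### `POmega = Omega` in characteristic two -/

section char2

variable {ι : Type} [Fintype ι] [DecidableEq ι] {F : Type*} [Field F] [Finite F] {Q : QuadraticForm F (ι → F)}

theorem center_eq_bot (h2 : (2 : F) = 0) (hQ : Nondeg Q) (h5 : 5 ≤ Fintype.card ι) :
    Subgroup.center (Omega F ⇑Q) = ⊥ := by
  have hs : ∃ u : ι → F, u ≠ 0 ∧ Q u = 0 := by
    obtain ⟨w, -, h1, h2⟩ := Cfsg.Agent.LieClassical.OrthFinite.exists_sing_mem (Q := Q) (⊤ : Submodule F (ι → F)) (by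
      rw [finrank_top, Module.finrank_fintype_fun_eq_card]
      omega)
    exact ⟨w, h1, h2⟩
  rw [eq_bot_iff]
  intro z hz
  rw [Cfsg.Agent.LieClassical.OrthCenter.mem_center_omega_iff (Cfsg.Agent.H377.nondegenerate_of_nondeg hQ) (by omega)
    hs] at hz
  rw [Subgroup.mem_bot]
  apply omM_injective
  rw [map_one]
  have h3 : (-1 : Matrix ι ι F) = 1 := by
    rw [neg_eq_iff_add_eq_zero, ← two_smul F (1 : Matrix ι ι F), h2, zero_smul]
  rcases hz with h | h
  · exact h
  · exact h.trans h3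

/-- `POmega ≃* Omega` -/
noncomputable def pomEquiv (h2 : (2 : F) = 0) (hQ : Nondeg Q) (h5 : 5 ≤ Fintype.card ι) :
    POmega F ⇑Q ≃* Omega F ⇑Q :=
  (MulEquiv.ofBijective (QuotientGroup.mk' (Subgroup.center (Omega F ⇑Q)))
    ⟨by
      rw [← MonoidHom.ker_eq_bot_iff, QuotientGroup.ker_mk', center_eq_bot h2 hQ h5],
      QuotientGroup.mk'_surjective _⟩).symm

/-- no element of order 5 of `Ω₁₄^±(2)` commutes with elements of orders 11 and 13 -/
theorem no_five (hF : Nat.card F = 2) (hQ : Nondeg Q) (hc : Fintype.card ι = 14) {y x₁ x₂ : POmega F ⇑Q}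
    (hy : orderOf y = 5) (hx₁ : orderOf x₁ = 11) (hx₂ : orderOf x₂ = 13) (h1 : x₁ * y = y * x₁)
    (h2 : x₂ * y = y * x₂) : False := by
  have h20 : (2 : F) = 0 := by
    have := Fintype.ofFinite F
    exact two_eq_zero (k := 1) (by rw [← Nat.card_eq_fintype_card, hF, pow_one]) one_ne_zero
  have P5 : Pr (Nat.card F) 5 4 := by rw [hF]; exact prOf (by norm_num) (by decide +kernel)
  have P11 : Pr (Nat.card F) 11 10 := by rw [hF]; exact prOf (by norm_num) (by decide +kernel)
  have P13 : Pr (Nat.card F) 13 12 := by rw [hF]; exact prOf (by norm_num) (by decide +kernel)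
  let ρ : POmega F ⇑Q →* ((ι → F) ≃ₗ[F] (ι → F)) :=
    (rhoOf (omM ⇑Q)).comp (pomEquiv h20 hQ (by omega)).toMonoidHom
  have hρ : Function.Injective ρ := (rhoOf_injective omM_injective).comp (pomEquiv h20 hQ (by omega)).injective
  have hpow : ∀ {x : POmega F ⇑Q} {n : ℕ}, orderOf x = n → ρ x ^ n = 1 := by
    intro x n hx
    rw [← map_pow, ← hx, pow_orderOf_eq_one, map_one]
  have hne : ∀ {x : POmega F ⇑Q} {n : ℕ}, orderOf x = n → n ≠ 1 → ρ x ≠ 1 := by
    intro x n hx hn h
    rw [hρ (h.trans (map_one ρ).symm), orderOf_one] at hx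
    exact hn hx.symm
  have hd : finrank F (ι → F) = 14 := by rw [Module.finrank_fintype_fun_eq_card, hc]
  have a1 := comm_dims (x := ρ x₁) (y := ρ y) (by rw [← map_mul, h1, map_mul]) P11 P5 (hpow hx₁) (hpow hy)
    (by rw [hd]; decide)
  have a2 := le_mv P11 (hpow hx₁) (hne hx₁ (by norm_num))
  have a3 := comm_dims' (x := ρ x₂) (y := ρ y) (by rw [← map_mul, h2, map_mul]) P13 P5 (hpow hx₂) (hpow hy)
    (lt_of_le_of_lt (by omega : _ ≤ 4) (by decide))
  have a4 := le_mv P13 (hpow hx₂) (hne hx₂ (by norm_num))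
  have a5 := le_mv P5 (hpow hy) (hne hy (by norm_num))
  omega

end char2

/-! ### `Suz` and the alternating groups -/

/-- no element of order 55 in `Suz` -/
theorem noOrd_suz : NoOrd.{0} .suz (5 * 11) := by
  intro S _ _ h z hz
  have hc := NotCT.Orders.suz h
  obtain ⟨e⟩ := h
  have hc' : Nat.card Spor.Suz = 448345497600 := NotCT.Orders.suz ⟨MulEquiv.refl _⟩
  have hf : Finite Spor.Suz := Nat.finite_of_card_ne_zero (by rw [hc']; norm_num)
  have hz' : orderOf (e z) = 5 * 11 := by rw [MulEquiv.orderOf_eq, hz]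
  obtain ⟨u, v, hu, hv, huv⟩ := exists_pair hz' (by norm_num) (by norm_num)
  have : Fact (Nat.Prime 11) := ⟨by norm_num⟩
  have hcyc := fun P : Sylow 11 Spor.Suz =>
    H257.El.cyclic_of_sq (G := Spor.Suz) (s := 11) (by rw [hc']; norm_num) P
  obtain ⟨g, hg⟩ := H257.El.conj_of_cyclic hcyc OddHalf.Table.OutSuz.order_x hv
  have hgv : orderOf (g * v * g⁻¹) = 11 := by
    rw [← hv]
    exact orderOf_injective (MulAut.conj g).toMonoidHom (MulAut.conj g).injective v
  have hx : OddHalf.Table.SuzRep.x ∈ Subgroup.zpowers (g * v * g⁻¹) := by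
    have h1 : Subgroup.zpowers (g * v * g⁻¹) = Subgroup.zpowers OddHalf.Table.SuzRep.x := by
      apply Subgroup.eq_of_le_of_card_ge
      · rw [Subgroup.zpowers_le]; exact hg
      · rw [Nat.card_zpowers, Nat.card_zpowers, hgv, OddHalf.Table.OutSuz.order_x]
    rw [h1]; exact Subgroup.mem_zpowers _
  obtain ⟨j, hj⟩ := Subgroup.mem_zpowers_iff.1 hx
  have hcomm : (g * u * g⁻¹) * OddHalf.Table.SuzRep.x = OddHalf.Table.SuzRep.x * (g * u * g⁻¹) := by
    rw [← hj]
    have h1 : Commute (g * u * g⁻¹) (g * v * g⁻¹) := by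
      show g * u * g⁻¹ * (g * v * g⁻¹) = g * v * g⁻¹ * (g * u * g⁻¹)
      calc g * u * g⁻¹ * (g * v * g⁻¹) = g * (u * v) * g⁻¹ := by group
        _ = g * (v * u) * g⁻¹ := by rw [huv]
        _ = _ := by group
    exact (h1.zpow_right j).eq
  obtain ⟨i, hi⟩ := OddHalf.Table.OutSuz.cent_x _ hcomm
  have h5 : orderOf (g * u * g⁻¹) = 5 := by
    rw [← hu]
    exact orderOf_injective (MulAut.conj g).toMonoidHom (MulAut.conj g).injective u
  have h6 : orderOf (g * u * g⁻¹) ∣ 11 := by
    rw [hi, ← OddHalf.Table.OutSuz.order_x]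
    exact orderOf_pow_dvd i
  rw [h5] at h6
  exact absurd h6 (by norm_num)

theorem mulAut_congr {A B : Type*} [Group A] [Group B] (e : A ≃* B) : Nat.card (MulAut A) = Nat.card (MulAut B) :=
  Nat.card_congr (MulAut.congr e).toEquiv

/-- `|Aut Suz|` divides `2 |Suz|` -/
theorem mulAut_suz {S : Type} [Group S] [Finite S] (h : Spor.IsoSuz S) : Nat.card (MulAut S) ∣ 2 * Nat.card S := by
  obtain ⟨e⟩ := h
  have hc' : Nat.card Spor.Suz = 448345497600 := NotCT.Orders.suz ⟨MulEquiv.refl _⟩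
  have hf : Finite Spor.Suz := Nat.finite_of_card_ne_zero (by rw [hc']; norm_num)
  rw [mulAut_congr e, Nat.card_congr e.toEquiv]
  exact H713.card_mulAut_dvd (S := Spor.Suz) (by rw [S2074.result])

/-- `|Aut A_n|` divides `2 |A_n|` -/
theorem mulAut_alt {n : ℕ} (hn : 7 ≤ n) {S : Type} [Group S] [Finite S] (e : S ≃* alternatingGroup (Fin n)) :
    Nat.card (MulAut S) ∣ 2 * Nat.card S := by
  rw [mulAut_congr e, Nat.card_congr e.toEquiv]
  obtain ⟨ψ, hψ⟩ := StandardComponent.AltAut.exists_autHom n hn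
  have hinj : Function.Injective ψ := by
    rw [injective_iff_map_eq_one]
    intro f hf
    apply MulEquiv.ext
    intro x
    apply Subtype.ext
    rw [hψ, hf, one_mul, inv_one, mul_one]
    rfl
  have : Nontrivial (Fin n) := Fin.nontrivial_iff_two_le.2 (by omega)
  have h1 : 2 * Nat.card (alternatingGroup (Fin n)) = Nat.card (Equiv.Perm (Fin n)) := by
    rw [Nat.card_eq_fintype_card, Nat.card_eq_fintype_card]
    exact two_mul_card_alternatingGroup
  rw [h1]
  exact Subgroup.card_dvd_of_injective ψ hinj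

/-! ### the group -/

/-- the order -/
def nP14 : ℕ := 2 ^ 42 * 3 ^ 8 * 5 ^ 3 * 7 ^ 2 * 11 * 13 * 17 * 31 * 127

/-- its factorisation -/
def lP14 : List (ℕ × ℕ) := [(2, 42), (3, 8), (5, 3), (7, 2), (11, 1), (13, 1), (17, 1), (31, 1), (127, 1)]

theorem survP14 : H257.El.surv nP14 lP14 13 [11] =
    [.alt 13, .alt 14, .alt 15, .alt 16, .alt 17, .alt 18, .psl 6 4, .psp 6 2, .ominus 6 2, .suz] := by
  decide +kernel

/-- the case of a small outer automorphism group -/
theorem core_kill {T : Type} [Group T] [Finite T] {R : Subgroup T} {O : Subgroup R} [O.Normal] {N : Subgroup (R ⧸ O)}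
    [N.Normal] (S : SitP T nP14 lP14 13 R) (h : Top R 13 O N) (hna : ¬ ∀ a b : N, a * b = b * a)
    (hout : Nat.card (MulAut N) ∣ 2 * Nat.card N) (h25 : 5 ^ 2 * 11 * 13 ∣ Nat.card N) (h55 : ∀ z : N, orderOf z ≠ 5 * 11)
    {c : R} (hc : orderOf c = 5 * 11) :
    ∃ y x₁ x₂ : T, orderOf y = 5 ∧ orderOf x₁ = 11 ∧ orderOf x₂ = 13 ∧ x₁ * y = y * x₁ ∧ x₂ * y = y * x₂ := by
  have hind := h.index_dvd_out hna hout
  have hR := card_mul_index_mul O N
  have hRn := S.dvd_n
  obtain ⟨w, hw⟩ := h25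
  have hO : ∀ m : ℕ, m ∣ Nat.card O → 5 ^ 2 * 11 * 13 * m ∣ nP14 := by
    intro m hm
    refine dvd_trans ?_ hRn
    rw [← hR]
    refine Nat.mul_dvd_mul ⟨w, hw⟩ ?_
    exact hm.trans (dvd_mul_left _ _)
  have h11 : ¬ 11 ∣ Nat.card O := fun hd => absurd (hO 11 hd) (by decide +kernel)
  have h52 : ¬ 5 ^ 2 ∣ Nat.card O := fun hd => absurd (hO (5 ^ 2) hd) (by decide +kernel)
  have hi : (5 * 11).Coprime N.index := Nat.Coprime.coprime_dvd_right hind (by norm_num)
  have h5 := dvd_core_of_ord (s := 5) (t := 11) (by norm_num) (by norm_num) hi h11 h55 hc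
  obtain ⟨y, hy, hall⟩ := exists_common h (by norm_num : Nat.Prime 5) h5 h52 hna
  obtain ⟨x₁, hx₁, h1⟩ := hall 11 (by norm_num) (by rw [hw]; exact ⟨5 ^ 2 * 13 * w, by ring⟩)
  obtain ⟨x₂, hx₂, h2⟩ := hall 13 (by norm_num) (by rw [hw]; exact ⟨5 ^ 2 * 11 * w, by ring⟩)
  exact ⟨y, x₁, x₂, by rw [Subgroup.orderOf_coe, hy], by rw [Subgroup.orderOf_coe, hx₁],
    by rw [Subgroup.orderOf_coe, hx₂], congrArg Subtype.val h1, congrArg Subtype.val h2⟩

theorem pr127 : Pr (2 ^ 1) 127 7 := prOf (by norm_num) (by decide +kernel)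
theorem pr11 : Pr (2 ^ 1) 11 10 := prOf (by norm_num) (by decide +kernel)
theorem pr13' : Pr (2 ^ 1) 13 12 := prOf (by norm_num) (by decide +kernel)
theorem pr5' : Pr (2 ^ 1) 5 4 := prOf (by norm_num) (by decide +kernel)
theorem pr11_4 : Pr 4 11 5 := prOf (by norm_num) (by decide +kernel)
theorem pr5_4' : Pr 4 5 2 := prOf (by norm_num) (by decide +kernel)

theorem noTwo_oplus14 (tab : OrderTable.{0}) (known : H257.El.Known.{0}) {F : Type} [Field F] [Fintype F]
    (hF : Fintype.card F = 2) : NoTwo (POmega F (quadFormPlus 7 F)) := by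
  have hF1 : Fintype.card F = 2 ^ 1 := by rw [hF, pow_one]
  have hn : Nat.card (POmega F (quadFormPlus 7 F)) = nP14 := by
    have h := S0293.result hF 7 (by norm_num)
    rw [show Nat.gcd 4 (2 ^ 7 - 1) = 1 by norm_num, one_mul] at h
    rw [h]
    decide +kernel
  have hfin : Finite (POmega F (quadFormPlus 7 F)) := Nat.finite_of_card_ne_zero (by
    rw [hn]; unfold nP14; norm_num)
  have hq : Nat.card F = 2 := by rw [Nat.card_eq_fintype_card, hF]
  have hno : ∀ {l₁ l₂ d₁ d₂ : ℕ}, Pr (2 ^ 1) l₁ d₁ → Pr (2 ^ 1) l₂ d₂ → 2 * 7 < Nat.lcm d₁ d₂ →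
      2 * 7 < Nat.lcm 2 d₁ + Nat.lcm 2 d₂ → ∀ z : POmega F (quadFormPlus 7 F), orderOf z ≠ l₁ * l₂ :=
    fun P₁ P₂ h hs => noOrd_plus hF1 one_ne_zero P₁ P₂ h hs
  have h127 : ∃ x : POmega F (quadFormPlus 7 F), 127 ∣ orderOf x :=
    exists_elt (by norm_num) (by rw [hn]; decide +kernel)
  have h65 : ∃ x : POmega F (quadFormPlus 7 F), orderOf x = 65 := by
    have h1 : H377.Elt F 6 (-1) 65 := H377.elt_tor_minus (by norm_num) (by rw [hq]; norm_num)
    have h2 : H377.Elt F 1 (-1) 1 := H377.elt_tor_minus (by norm_num) (by rw [hq]; norm_num)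
    have h3 := h1.prod h2
    exact ((H377.Elt.two (by norm_num) (by decide) h3 : H377.Elt2 F 7 1 65)).plus (by norm_num)
  have h165 : ∃ x : POmega F (quadFormPlus 7 F), orderOf x = 165 := by
    have h1 : H377.Elt F 5 (-1) 33 := H377.elt_tor_minus (by norm_num) (by rw [hq]; norm_num)
    have h2 : H377.Elt F 2 (-1) 5 := H377.elt_tor_minus (by norm_num) (by rw [hq]; norm_num)
    have h3 := h1.prod h2
    exact ((H377.Elt.two (by norm_num) (by decide) h3 : H377.Elt2 F 7 1 165)).plus (by norm_num)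
  obtain ⟨x, hx⟩ := h127
  obtain ⟨y, hy⟩ := h65
  obtain ⟨z, hz⟩ := h165
  have hxy : Inc x y := by
    refine inc_of_bad (bad_of_chk tab known (l := lP14) hn (by norm_num) (by norm_num)
      (hno pr127 pr13' (by decide) (by decide)) (by decide +kernel)) hx (by rw [hy]; norm_num)
  have hxz : Inc x z := by
    refine inc_of_bad (bad_of_chk tab known (l := lP14) hn (by norm_num) (by norm_num)
      (hno pr127 pr11 (by decide) (by decide)) (by decide +kernel)) hx (by rw [hz]; norm_num)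
  have hyz : Inc y z := by
    intro R hR
    by_contra hcon
    rw [not_or] at hcon
    obtain ⟨O, hO, N, hN, S, h, hna, g, hg, hre, hgc⟩ := exists_sit tab known (l := lP14) hn (by norm_num : Nat.Prime 13)
      (by norm_num : Nat.Prime 11) (hno pr13' pr11 (by decide) (by decide)) (by decide +kernel) hR
      (dvd_of_not_av hcon.1 (by rw [hy]; norm_num)) (dvd_of_not_av hcon.2 (by rw [hz]; norm_num))
    -- an order which is seen in `N`
    have key : ∀ k : ℕ, (k ∣ 65 ∨ k ∣ 165) → k.Coprime (nP14 / ordN g) → NoOrd.{0} g k → False := by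
      intro k hk hcop hng
      obtain ⟨c, hcR, hck⟩ : ∃ c ∈ R, orderOf c = k := by
        rcases hk with hk | hk
        · exact exists_ord_of_not_av hcon.1 (by rw [hy]; exact hk)
        · exact exists_ord_of_not_av hcon.2 (by rw [hz]; exact hk)
      have h1 := card_mul_index_mul O N
      have h0 : 0 < Nat.card N := Nat.card_pos
      have h2 : N.index * Nat.card O ∣ nP14 / ordN g := by
        rw [← hgc]
        obtain ⟨t, ht⟩ := S.dvd_n
        rw [ht, ← h1, mul_assoc, Nat.mul_div_cancel_left _ h0]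
        exact dvd_mul_right _ _
      obtain ⟨u, hu⟩ := desc (N := N) (Nat.Coprime.coprime_dvd_right h2 hcop) (c := ⟨c, hcR⟩)
        (by rw [Subgroup.orderOf_mk, hck])
      exact hng N hre u hu
    -- the case of a small outer automorphism group
    have key2 : Nat.card (MulAut N) ∣ 2 * Nat.card N → 5 ^ 2 * 11 * 13 ∣ ordN g → NoOrd.{0} g (5 * 11) → False := by
      intro hout h25 hng
      obtain ⟨c, hcR, hck⟩ := exists_ord_of_not_av hcon.2 (show 5 * 11 ∣ orderOf z by rw [hz]; norm_num)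
      obtain ⟨v, x₁, x₂, hv, hx₁, hx₂, h1, h2⟩ := core_kill S h hna hout (by rw [hgc]; exact h25)
        (fun u => hng N hre u) (c := ⟨c, hcR⟩) (by rw [Subgroup.orderOf_mk, hck])
      revert v x₁ x₂
      rw [← coe_plusForm]
      intro v x₁ x₂ hv hx₁ hx₂ h1 h2
      exact no_five hq (nondeg_plusForm 7 F) (by simp) hv hx₁ hx₂ h1 h2
    rw [survP14] at hg
    simp only [List.mem_cons, List.not_mem_nil, or_false] at hg
    rcases hg with rfl | rfl | rfl | rfl | rfl | rfl | rfl | rfl | rfl | rfl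
    · obtain ⟨e⟩ := id hre
      exact key2 (mulAut_alt (by norm_num) e) (by decide +kernel) (noOrd_alt (by norm_num) (by norm_num) (by norm_num)
        (by norm_num))
    · obtain ⟨e⟩ := id hre
      exact key2 (mulAut_alt (by norm_num) e) (by decide +kernel) (noOrd_alt (by norm_num) (by norm_num) (by norm_num)
        (by norm_num))
    · exact key (5 * 13) (Or.inl (by norm_num)) (by decide +kernel) (noOrd_alt (by norm_num) (by norm_num) (by norm_num)
        (by norm_num))
    · exact key (5 * 13) (Or.inl (by norm_num)) (by decide +kernel) (noOrd_alt (by norm_num) (by norm_num) (by norm_num)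
        (by norm_num))
    · exact key (5 * 13) (Or.inl (by norm_num)) (by decide +kernel) (noOrd_alt (by norm_num) (by norm_num) (by norm_num)
        (by norm_num))
    · exact key (3 * 5 * 11) (Or.inr (by norm_num)) (by decide +kernel) (noOrd_alt3 (by norm_num) (by norm_num)
        (by norm_num) (by norm_num) (by norm_num) (by norm_num) (by norm_num))
    · exact key (11 * 5) (Or.inr (by norm_num)) (by decide +kernel) (noOrd_realPsl pr11_4 pr5_4' (by decide) (by decide))
    · exact key (11 * 5) (Or.inr (by norm_num)) (by decide +kernel) (noOrd_realPsp pr11 pr5' (by decide) (by decide))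
    · exact key (11 * 5) (Or.inr (by norm_num)) (by decide +kernel)
        (noOrd_realMinus (k := 1) one_ne_zero pr11 pr5' (by norm_num) (by decide) (by decide))
    · exact key2 (mulAut_suz hre) (by decide +kernel) noOrd_suz
  exact noTwo_of_three hxy hyz hxz

end Cfsg.Agent.H25.Cov
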