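import Mathlib
import Cfsg.Agent.H371.AlgLemma
import Cfsg.Agent.H957.NoFixQuad

/-!
# Elements of prime order and their torus (S2499, helper25)

`V` a space over the finite field `F` with `q` elements.
* `Pr q l d` : `l` is a primitive prime divisor of `q ^ d - 1`;
* `fx x`, `mv x` : fixed space and range of `x - 1`;
* `dvd_dim` : `d` divides `dim X - dim (X ∩ fx x)` for every `x`-invariant subspace `X`;
* `isCompl`, `polar_fx_mv`;
* `exists_torus_quad` : an isometry `x` of a nondegenerate quadratic form with `dim (mv x) = 2 k` lies in a cyclic group of order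
  `M`, for every multiple `M` of `l` dividing `q ^ k + 1`, acting trivially on `fx x`.
-/

set_option autoImplicit false

namespace Cfsg.Agent.H25.Cov

open Module QuadraticMap

/-- `l` is a primitive prime divisor of `q ^ d - 1` -/
structure Pr (q l d : ℕ) : Prop where
  prime : l.Prime
  pos : 0 < d
  dvd_iff : ∀ n, l ∣ q ^ n - 1 ↔ d ∣ n

theorem Pr.of {q l d : ℕ} (hl : l.Prime) (hd : 0 < d) (h : l ∣ q ^ d - 1)
    (h' : ∀ i, 0 < i → i < d → ¬ l ∣ q ^ i - 1) : Pr q l d := by
  refine ⟨hl, hd, fun n => ⟨fun hn => ?_, fun hn => h.trans (Nat.pow_sub_one_dvd_pow_sub_one q hn)⟩⟩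
  have h1 := Nat.dvd_gcd hn h
  rw [Nat.pow_sub_one_gcd_pow_sub_one] at h1
  have h2 : Nat.gcd n d ∣ d := Nat.gcd_dvd_right n d
  have h3 : 0 < Nat.gcd n d := Nat.gcd_pos_of_pos_right n hd
  have h4 : Nat.gcd n d ≤ d := Nat.le_of_dvd hd h2
  rcases h4.lt_or_eq with h5 | h5
  · exact absurd h1 (h' _ h3 h5)
  · rw [← h5]; exact Nat.gcd_dvd_left n d

theorem Pr.not_dvd {q l d : ℕ} (P : Pr q l d) {i : ℕ} (hi : 0 < i) (hid : i < d) : ¬ l ∣ q ^ i - 1 := fun h =>
  absurd (Nat.le_of_dvd hi ((P.dvd_iff i).1 h)) (by omega)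

theorem Pr.dvd {q l d : ℕ} (P : Pr q l d) : l ∣ q ^ d - 1 := (P.dvd_iff d).2 dvd_rfl

theorem Pr.not_dvd_base {q l d : ℕ} (P : Pr q l d) (hq : 0 < q) : ¬ l ∣ q := by
  intro h
  have h1 : l ∣ q ^ d := h.trans (dvd_pow_self q P.pos.ne')
  have h2 : 1 ≤ q ^ d := Nat.one_le_pow _ _ hq
  have h3 : l ∣ q ^ d - (q ^ d - 1) := Nat.dvd_sub h1 P.dvd
  rw [show q ^ d - (q ^ d - 1) = 1 by omega] at h3
  exact P.prime.one_lt.ne' (Nat.dvd_one.1 h3)

/-- `d ∣ l - 1` -/
theorem Pr.lt {q l d : ℕ} (P : Pr q l d) (hq : 0 < q) : d < l := by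
  have h1 : ¬ l ∣ q := P.not_dvd_base hq
  have h2 : Nat.Coprime q l := ((Nat.Prime.coprime_iff_not_dvd P.prime).2 h1).symm
  have h3 : q ^ (l - 1) ≡ 1 [MOD l] := by
    have := Nat.ModEq.pow_totient h2
    rwa [Nat.totient_prime P.prime] at this
  have h4 : l ∣ q ^ (l - 1) - 1 := (Nat.modEq_iff_dvd' (Nat.one_le_pow _ _ hq)).1 h3.symm
  have h5 := Nat.le_of_dvd (by have := P.prime.two_le; omega) ((P.dvd_iff _).1 h4)
  have := P.prime.two_le
  omega

section

variable {F V : Type*} [Field F] [AddCommGroup V] [Module F V]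

theorem Pr.cast_ne_zero [Finite F] {l d : ℕ} (P : Pr (Nat.card F) l d) : (l : F) ≠ 0 := by
  intro h
  have hq : 0 < Nat.card F := Nat.card_pos
  apply P.not_dvd_base hq
  have h1 : l • (1 : F) = 0 := by rw [nsmul_eq_mul, mul_one, h]
  have h2 : addOrderOf (1 : F) ∣ l := addOrderOf_dvd_of_nsmul_eq_zero h1
  rcases (Nat.dvd_prime P.prime).1 h2 with h3 | h3
  · rw [AddMonoid.addOrderOf_eq_one_iff] at h3
    exact absurd h3 one_ne_zero
  · rw [← h3]; exact addOrderOf_dvd_natCard _

/-- the fixed space -/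
def fx (x : V ≃ₗ[F] V) : Submodule F V := LinearMap.ker ((x : V →ₗ[F] V) - LinearMap.id)

/-- the commutator space -/
def mv (x : V ≃ₗ[F] V) : Submodule F V := LinearMap.range ((x : V →ₗ[F] V) - LinearMap.id)

theorem mem_fx {x : V ≃ₗ[F] V} {v : V} : v ∈ fx x ↔ x v = v := by
  unfold fx
  rw [LinearMap.mem_ker, LinearMap.sub_apply, LinearMap.id_apply, sub_eq_zero]
  rfl

theorem mem_mv {x : V ≃ₗ[F] V} {v : V} : v ∈ mv x ↔ ∃ w, x w - w = v := Iff.rfl

theorem finrank_mv [FiniteDimensional F V] (x : V ≃ₗ[F] V) :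
    finrank F (mv x) + finrank F (fx x) = finrank F V :=
  LinearMap.finrank_range_add_finrank_ker _

theorem iter_fx {x : V ≃ₗ[F] V} {w v : V} (hv : x v = v) (hw : x w = w + v) (n : ℕ) :
    (x ^ n) w = w + (n : F) • v := by
  induction n with
  | zero => simp
  | succ n ih =>
    rw [pow_succ', LinearEquiv.mul_apply, ih, map_add, map_smul, hv, hw, Nat.cast_succ, add_smul, one_smul]
    abel

theorem isCompl [FiniteDimensional F V] {x : V ≃ₗ[F] V} {l : ℕ} (hl : (l : F) ≠ 0) (hx : x ^ l = 1) :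
    IsCompl (fx x) (mv x) := by
  have hdis : fx x ⊓ mv x = ⊥ := by
    rw [eq_bot_iff]
    rintro v ⟨h1, h2⟩
    rw [SetLike.mem_coe, mem_fx] at h1
    obtain ⟨w, hw⟩ := mem_mv.1 h2
    have h3 : x w = w + v := by rw [← hw]; abel
    have h4 := iter_fx h1 h3 l
    rw [hx] at h4
    have h5 : (l : F) • v = 0 := by
      have : w = w + (l : F) • v := h4
      simpa using this.symm
    exact (smul_eq_zero.1 h5).resolve_left hl
  refine ⟨disjoint_iff.2 hdis, codisjoint_iff.2 ?_⟩
  apply Submodule.eq_top_of_finrank_eq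
  have h1 := Submodule.finrank_sup_add_finrank_inf_eq (fx x) (mv x)
  have h2 := finrank_mv x
  rw [hdis, finrank_bot] at h1
  omega

/-- **dimensions of invariant subspaces** -/
theorem dvd_dim [Finite F] [FiniteDimensional F V] {l d : ℕ} (P : Pr (Nat.card F) l d) {x : V ≃ₗ[F] V}
    (hx : x ^ l = 1) (X : Submodule F V) (hX : ∀ v ∈ X, x v ∈ X) :
    d ∣ finrank F X - finrank F (X ⊓ fx x : Submodule F V) := by
  classical
  have : Finite V := Module.finite_of_finite F
  have : Fact l.Prime := ⟨P.prime⟩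
  have : Fintype X := Fintype.ofFinite X
  let f : Function.End X := fun v => ⟨x v, hX v v.2⟩
  have hf : ∀ (n : ℕ) (v : X), ((f ^ n) v : V) = (x ^ n) v := by
    intro n
    induction n with
    | zero => intro v; rfl
    | succ n ih =>
      intro v
      rw [pow_succ, pow_succ]
      exact ih (f v)
  have hf1 : f ^ l ^ 1 = 1 := by
    funext v
    apply Subtype.ext
    rw [hf, pow_one, hx]
    rfl
  have h1 := Equiv.Perm.card_fixedPoints_modEq hf1
  let e : Function.fixedPoints f ≃ (X ⊓ fx x : Submodule F V) :=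
    { toFun := fun v => ⟨v.1.1, v.1.2, mem_fx.2 (congrArg Subtype.val v.2)⟩
      invFun := fun v => ⟨⟨v.1, v.2.1⟩, Subtype.ext (mem_fx.1 v.2.2)⟩
      left_inv := fun v => rfl
      right_inv := fun v => rfl }
  rw [← Nat.card_eq_fintype_card, ← Nat.card_eq_fintype_card, Nat.card_congr e,
    Module.natCard_eq_pow_finrank (K := F) (V := X),
    Module.natCard_eq_pow_finrank (K := F) (V := (X ⊓ fx x : Submodule F V))] at h1
  have hle : finrank F (X ⊓ fx x : Submodule F V) ≤ finrank F X :=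
    Submodule.finrank_mono inf_le_left
  set a := finrank F X
  set b := finrank F (X ⊓ fx x : Submodule F V)
  have hq : 0 < Nat.card F := Nat.card_pos
  have h2 : l ∣ Nat.card F ^ a - Nat.card F ^ b :=
    (Nat.modEq_iff_dvd' (Nat.pow_le_pow_right hq hle)).1 h1.symm
  have h3 : Nat.card F ^ a - Nat.card F ^ b = Nat.card F ^ b * (Nat.card F ^ (a - b) - 1) := by
    rw [Nat.mul_sub, mul_one, ← pow_add, Nat.add_sub_cancel' hle]
  rw [h3] at h2
  rcases P.prime.dvd_mul.1 h2 with h4 | h4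
  · exact absurd (P.prime.dvd_of_dvd_pow h4) (P.not_dvd_base hq)
  · exact (P.dvd_iff _).1 h4

/-- the dimension of `mv x` is divisible by `d` -/
theorem dvd_mv [Finite F] [FiniteDimensional F V] {l d : ℕ} (P : Pr (Nat.card F) l d) {x : V ≃ₗ[F] V}
    (hx : x ^ l = 1) : d ∣ finrank F (mv x) := by
  have h1 := dvd_dim P hx ⊤ (fun v _ => trivial)
  rw [top_inf_eq, finrank_top] at h1
  have h2 := finrank_mv x
  rwa [show finrank F V - finrank F (fx x) = finrank F (mv x) by omega] at h1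

theorem mv_ne_bot {x : V ≃ₗ[F] V} (hx : x ≠ 1) : mv x ≠ ⊥ := by
  intro h
  apply hx
  apply LinearEquiv.ext
  intro v
  have h1 : x v - v ∈ mv x := mem_mv.2 ⟨v, rfl⟩
  rw [h, Submodule.mem_bot, sub_eq_zero] at h1
  exact h1

/-- if `dim V < 2 d` and `x ≠ 1` then `dim (mv x) = d` -/
theorem finrank_mv_eq [Finite F] [FiniteDimensional F V] {l d : ℕ} (P : Pr (Nat.card F) l d) {x : V ≃ₗ[F] V}
    (hx : x ^ l = 1) (hx1 : x ≠ 1) (hd : finrank F V < 2 * d) : finrank F (mv x) = d := by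
  obtain ⟨k, hk⟩ := dvd_mv P hx
  have h1 : 0 < finrank F (mv x) := by
    rw [pos_iff_ne_zero]
    intro h
    exact mv_ne_bot hx1 (Submodule.finrank_eq_zero.1 h)
  have h2 := finrank_mv x
  have h3 : k < 2 := by
    by_contra hcon
    have : d * 2 ≤ d * k := Nat.mul_le_mul_left d (by omega)
    omega
  have h4 : k ≠ 0 := by rintro rfl; omega
  obtain rfl : k = 1 := by omega
  omega

theorem mv_inv {x : V ≃ₗ[F] V} {v : V} (hv : v ∈ mv x) : x v ∈ mv x := by
  obtain ⟨w, rfl⟩ := mem_mv.1 hv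
  exact mem_mv.2 ⟨x w, by rw [map_sub]⟩

end

section quad

variable {F V : Type*} [Field F] [AddCommGroup V] [Module F V] {Q : QuadraticForm F V}

theorem polar_fx_mv {x : V ≃ₗ[F] V} (hx : x ∈ H957.isoQ Q) {v w : V} (hv : v ∈ fx x) (hw : w ∈ mv x) :
    polar Q v w = 0 := by
  obtain ⟨u, rfl⟩ := mem_mv.1 hw
  have h1 := H957.polar_iso hx v u
  rw [mem_fx.1 hv, polarBilin_apply_apply, polarBilin_apply_apply] at h1
  rw [polar_sub_right, h1, sub_self]

theorem map_add_fx_mv {x : V ≃ₗ[F] V} (hx : x ∈ H957.isoQ Q) {v w : V} (hv : v ∈ fx x) (hw : w ∈ mv x) :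
    Q (v + w) = Q v + Q w := by
  have h1 := polar_fx_mv hx hv hw
  rw [polar, sub_sub, sub_eq_zero] at h1
  exact h1

theorem sup_decomp [FiniteDimensional F V] {x : V ≃ₗ[F] V} {l : ℕ} (hl : (l : F) ≠ 0) (hx : x ^ l = 1) (v : V) :
    ∃ a ∈ fx x, ∃ b ∈ mv x, a + b = v :=
  Submodule.mem_sup.1 (by rw [(isCompl hl hx).sup_eq_top]; trivial)

/-- the form is nondegenerate on the fixed space -/
theorem nd_fx [FiniteDimensional F V] (hQ : ∀ w, (∀ v, polar Q v w = 0) → w = 0) {x : V ≃ₗ[F] V}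
    (hxQ : x ∈ H957.isoQ Q) {l : ℕ} (hl : (l : F) ≠ 0) (hx : x ^ l = 1) {w : V} (hw : w ∈ fx x)
    (h : ∀ v ∈ fx x, polar Q v w = 0) : w = 0 := by
  apply hQ
  intro v
  obtain ⟨a, ha, b, hb, rfl⟩ := sup_decomp hl hx v
  rw [polar_add_left, h a ha, zero_add, polar_comm]
  exact polar_fx_mv hxQ hw hb

/-- the form is nondegenerate on the commutator space -/
theorem nd_mv [FiniteDimensional F V] (hQ : ∀ w, (∀ v, polar Q v w = 0) → w = 0) {x : V ≃ₗ[F] V}
    (hxQ : x ∈ H957.isoQ Q) {l : ℕ} (hl : (l : F) ≠ 0) (hx : x ^ l = 1) {w : V} (hw : w ∈ mv x)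
    (h : ∀ v ∈ mv x, polar Q v w = 0) : w = 0 := by
  apply hQ
  intro v
  obtain ⟨a, ha, b, hb, rfl⟩ := sup_decomp hl hx v
  rw [polar_add_left, h b hb, add_zero]
  exact polar_fx_mv hxQ ha hw

end quad

section ext

variable {F V : Type*} [Field F] [AddCommGroup V] [Module F V]

/-- extension of an automorphism of a direct summand by the identity -/
noncomputable def extOne {U W : Submodule F V} (h : IsCompl U W) : (W ≃ₗ[F] W) →* (V ≃ₗ[F] V) where
  toFun g := ((Submodule.prodEquivOfIsCompl U W h).symm.trans ((LinearEquiv.refl F U).prodCongr g)).trans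
    (Submodule.prodEquivOfIsCompl U W h)
  map_one' := by
    apply LinearEquiv.ext
    intro v
    exact (Submodule.prodEquivOfIsCompl U W h).apply_symm_apply v
  map_mul' g g' := by
    apply LinearEquiv.ext
    intro v
    show (Submodule.prodEquivOfIsCompl U W h) _ = (Submodule.prodEquivOfIsCompl U W h) _
    congr 1
    show _ = ((LinearEquiv.refl F U).prodCongr g)
      ((Submodule.prodEquivOfIsCompl U W h).symm ((Submodule.prodEquivOfIsCompl U W h)
        (((LinearEquiv.refl F U).prodCongr g') ((Submodule.prodEquivOfIsCompl U W h).symm v))))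
    rw [LinearEquiv.symm_apply_apply]
    rfl

theorem extOne_left {U W : Submodule F V} (h : IsCompl U W) (g : W ≃ₗ[F] W) {v : V} (hv : v ∈ U) :
    extOne h g v = v := by
  have h1 : (Submodule.prodEquivOfIsCompl U W h).symm v = (⟨v, hv⟩, 0) :=
    Submodule.prodEquivOfIsCompl_symm_apply_left U W h ⟨v, hv⟩
  show (Submodule.prodEquivOfIsCompl U W h) (((LinearEquiv.refl F U).prodCongr g)
    ((Submodule.prodEquivOfIsCompl U W h).symm v)) = v
  rw [h1, LinearEquiv.prodCongr_apply, map_zero]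
  simp

theorem extOne_right {U W : Submodule F V} (h : IsCompl U W) (g : W ≃ₗ[F] W) (w : W) :
    extOne h g w = g w := by
  have h1 : (Submodule.prodEquivOfIsCompl U W h).symm w = (0, w) :=
    Submodule.prodEquivOfIsCompl_symm_apply_right U W h w
  show (Submodule.prodEquivOfIsCompl U W h) (((LinearEquiv.refl F U).prodCongr g)
    ((Submodule.prodEquivOfIsCompl U W h).symm w)) = g w
  rw [h1, LinearEquiv.prodCongr_apply, map_zero]
  simp

theorem extOne_injective {U W : Submodule F V} (h : IsCompl U W) : Function.Injective (extOne h) := by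
  intro g g' hg
  apply LinearEquiv.ext
  intro w
  apply Subtype.ext
  rw [← extOne_right h g w, ← extOne_right h g' w, hg]

end ext

section torus

variable {F V : Type*} [Field F] [Finite F] [AddCommGroup V] [Module F V] [FiniteDimensional F V]

/-- an element of a cyclic group `⟨g⟩` of order `N` with `x ^ l = 1` lies in the subgroup of order `M`, `l ∣ M ∣ N` -/
theorem mem_zpowers_pow {G : Type*} [Group G] {g x : G} {N l M : ℕ} (hN : orderOf g = N) (hN0 : 0 < N)
    (hx : x ∈ Subgroup.zpowers g) (hxl : x ^ l = 1) (hlM : l ∣ M) (hM : M ∣ N) :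
    orderOf (g ^ (N / M)) = M ∧ x ∈ Subgroup.zpowers (g ^ (N / M)) := by
  obtain ⟨c, rfl⟩ := hM
  obtain ⟨a, rfl⟩ := hlM
  have hl0 : 0 < l := Nat.pos_of_ne_zero (by rintro rfl; simp at hN0)
  have ha0 : 0 < a := Nat.pos_of_ne_zero (by rintro rfl; simp at hN0)
  have hc0 : 0 < c := Nat.pos_of_ne_zero (by rintro rfl; simp at hN0)
  have hla : 0 < l * a := Nat.mul_pos hl0 ha0
  rw [Nat.mul_div_cancel_left c hla]
  have hfin : IsOfFinOrder g := by
    rw [← orderOf_pos_iff, hN]; exact hN0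
  refine ⟨?_, ?_⟩
  · rw [orderOf_pow' g hc0.ne', hN, Nat.gcd_mul_left_left, Nat.mul_div_cancel _ hc0]
  · rw [← hfin.mem_powers_iff_mem_zpowers] at hx
    obtain ⟨j, rfl⟩ := hx
    have h1 : orderOf g ∣ j * l := by
      rw [orderOf_dvd_iff_pow_eq_one, pow_mul]
      exact hxl
    rw [hN, show l * a * c = a * c * l by ring] at h1
    obtain ⟨t, rfl⟩ := Nat.dvd_of_mul_dvd_mul_right hl0 h1
    refine ⟨((a * t : ℕ) : ℤ), ?_⟩
    show (g ^ c) ^ ((a * t : ℕ) : ℤ) = g ^ (a * c * t)
    rw [zpow_natCast, ← pow_mul]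
    congr 1
    ring

/-- **The torus of an isometry of prime order**: `x` an isometry of order `l`, `l` a primitive prime divisor of `q ^ (2 k) - 1`,
`dim (mv x) = 2 k`, `l ∣ M ∣ q ^ k + 1`: there is an isometry `g` of order `M` trivial on the fixed space with `x ∈ ⟨g⟩`. -/
theorem exists_torus_quad {Q : QuadraticForm F V} (hQ : ∀ w, (∀ v, polar Q v w = 0) → w = 0) {l k : ℕ}
    (P : Pr (Nat.card F) l (2 * k)) {x : V ≃ₗ[F] V} (hxQ : x ∈ H957.isoQ Q) (hx : x ^ l = 1)
    (hdim : finrank F (mv x) = 2 * k) {M : ℕ} (hM : M ∣ Nat.card F ^ k + 1) (hlM : l ∣ M) :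
    ∃ g ∈ H957.isoQ Q, orderOf g = M ∧ x ∈ Subgroup.zpowers g ∧ ∀ v ∈ fx x, g v = v := by
  have hfin : Finite V := Module.finite_of_finite F
  have hl0 := P.cast_ne_zero
  have hk0 : 0 < k := by have := P.pos; omega
  have hl2 : l ≠ 2 := by
    have := P.lt (Nat.card_pos (α := F))
    omega
  set W := mv x with hW
  -- `x` restricted to `W`
  have hxW : ∀ v ∈ W, x v ∈ W := fun v hv => mv_inv hv
  let y : W ≃ₗ[F] W := LinearEquiv.ofInjectiveEndo ((x : V →ₗ[F] V).restrict hxW) (by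
    intro a b hab
    apply Subtype.ext
    apply x.injective
    exact congrArg Subtype.val hab)
  have hy : ∀ v : W, (y v : V) = x v := fun v => rfl
  have hyn : ∀ (n : ℕ) (v : W), ((y ^ n) v : V) = (x ^ n) v := by
    intro n
    induction n with
    | zero => intro v; rfl
    | succ n ih =>
      intro v
      rw [pow_succ, pow_succ, LinearEquiv.mul_apply, LinearEquiv.mul_apply, ih, hy]
  have hyl : y ^ l = 1 := by
    apply LinearEquiv.ext
    intro v
    apply Subtype.ext
    rw [hyn, hx]; rfl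
  have hy1 : y ≠ 1 := by
    intro h
    have hW0 : W = ⊥ := by
      rw [eq_bot_iff]
      intro v hv
      have h1 : x v = v := by
        have := congrArg (fun e : W ≃ₗ[F] W => ((e ⟨v, hv⟩ : W) : V)) h
        exact this
      have h2 : v ∈ fx x ⊓ mv x := ⟨mem_fx.2 h1, hv⟩
      rw [(isCompl hl0 hx).inf_eq_bot] at h2
      exact h2
    rw [hW0, finrank_bot] at hdim
    omega
  have hcardW : (Nat.card F ^ k) * (Nat.card F ^ k) = Nat.card W := by
    rw [Module.natCard_eq_pow_finrank (K := F) (V := W), hdim, ← pow_add, two_mul]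
  obtain ⟨g, hgo, hxg, hgB, hgQ⟩ := H371.Alg.exists_torus_quad (F := F) (V := W)
    (fun v w => polar Q (v : V) (w : V)) (fun v => Q (v : V))
    (fun u v w => by
      show polar Q ((u : V) + (v : V)) (w : V) = _
      rw [polar_add_left])
    (fun c v w => by
      show polar Q (c • (v : V)) (w : V) = _
      rw [polar_smul_left, smul_eq_mul])
    (fun v w => polar_comm _ _ _)
    (fun w hw => Subtype.ext (nd_mv hQ hxQ hl0 hx w.2 (fun v hv => hw ⟨v, hv⟩)))
    (fun v w => by
      show Q ((v : V) + (w : V)) = _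
      rw [polar]; ring)
    (fun c v => by
      show Q (c • (v : V)) = _
      rw [QuadraticMap.map_smul, smul_eq_mul]; ring)
    P.prime hl2 y hyl hy1 (fun v => by rw [hy]; exact hxQ v)
    (by rw [hdim]; exact P.dvd)
    (by
      intro i hi hid
      rw [hdim] at hid
      exact P.not_dvd hi hid)
    hcardW
  obtain ⟨h1, h2⟩ := mem_zpowers_pow hgo (Nat.succ_pos _) hxg hyl hlM hM
  set g' := g ^ ((Nat.card F ^ k + 1) / M) with hg'
  have hg'Q : ∀ v : W, Q (g' v : V) = Q (v : V) := by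
    rw [hg']
    intro v
    induction (Nat.card F ^ k + 1) / M generalizing v with
    | zero => rfl
    | succ n ih => rw [pow_succ, LinearEquiv.mul_apply, ih]; exact hgQ v
  have hc := isCompl hl0 hx
  refine ⟨extOne hc g', ?_, ?_, ?_, fun v hv => extOne_left hc g' hv⟩
  · intro v
    obtain ⟨a, ha, b, hb, rfl⟩ := sup_decomp hl0 hx v
    have h3 : extOne hc g' b = g' ⟨b, hb⟩ := extOne_right hc g' ⟨b, hb⟩
    rw [map_add, extOne_left hc g' ha, h3, map_add_fx_mv hxQ ha (g' ⟨b, hb⟩).2, map_add_fx_mv hxQ ha hb, hg'Q]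
  · rw [orderOf_injective _ (extOne_injective hc), h1]
  · have h3 : x = extOne hc y := by
      apply LinearEquiv.ext
      intro v
      obtain ⟨a, ha, b, hb, rfl⟩ := sup_decomp hl0 hx v
      have h4 : extOne hc y b = y ⟨b, hb⟩ := extOne_right hc y ⟨b, hb⟩
      rw [map_add, map_add, extOne_left hc y ha, h4, hy, mem_fx.1 ha]
    obtain ⟨n, hn⟩ := Subgroup.mem_zpowers_iff.1 h2
    exact ⟨n, by
      show (extOne hc g') ^ n = x
      rw [← map_zpow, hn]
      exact h3.symm⟩

end torus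

end Cfsg.Agent.H25.Cov
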