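import Cfsg.Agent.H25.Cov.NoOrd
import Cfsg.Agent.S0294

/-!
# S2499: the group `Ω⁻₁₄(2)` (helper25)

Elements of orders 43, 13, 155.
-/

set_option autoImplicit false

namespace Cfsg.Agent.H25.Cov

open Cfsg Cfsg.Agent.OrdDiv Cfsg.Agent.H278.Cov Cfsg.Agent.H455.Cov

/-- the order -/
def nM14 : ℕ := 2 ^ 42 * 3 ^ 9 * 5 ^ 3 * 7 ^ 2 * 11 * 13 * 17 * 31 * 43

/-- its factorisation -/
def lM14 : List (ℕ × ℕ) := [(2, 42), (3, 9), (5, 3), (7, 2), (11, 1), (13, 1), (17, 1), (31, 1), (43, 1)]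

theorem pr43 : Pr (2 ^ 1) 43 14 := prOf (by norm_num) (by decide +kernel)
theorem pr13 : Pr (2 ^ 1) 13 12 := prOf (by norm_num) (by decide +kernel)
theorem pr31 : Pr (2 ^ 1) 31 5 := prOf (by norm_num) (by decide +kernel)
theorem pr5 : Pr (2 ^ 1) 5 4 := prOf (by norm_num) (by decide +kernel)
theorem pr31_4 : Pr 4 31 5 := prOf (by norm_num) (by decide +kernel)
theorem pr5_4 : Pr 4 5 2 := prOf (by norm_num) (by decide +kernel)

theorem surv31 : H257.El.surv nM14 lM14 31 [13] = [.psl 6 4, .psp 6 2, .ominus 6 2] := by decide +kernel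

theorem noTwo_ominus14 (tab : OrderTable.{0}) (known : H257.El.Known.{0}) {F : Type} [Field F] [Fintype F]
    (hF : Fintype.card F = 2) {a b : F}
    (hab : ∀ z₁ z₂ : F, z₁ ^ 2 + a * z₁ * z₂ + b * z₂ ^ 2 = 0 → z₁ = 0 ∧ z₂ = 0) :
    NoTwo (POmega F (quadFormMinus (7 - 1) F a b)) := by
  have hF1 : Fintype.card F = 2 ^ 1 := by rw [hF, pow_one]
  have hn : Nat.card (POmega F (quadFormMinus (7 - 1) F a b)) = nM14 := by
    have h := S0294.result hF 7 (by norm_num) a b hab
    rw [show Nat.gcd 4 (2 ^ 7 + 1) = 1 by norm_num, one_mul] at h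
    rw [h]
    decide +kernel
  have hfin : Finite (POmega F (quadFormMinus (7 - 1) F a b)) := Nat.finite_of_card_ne_zero (by
    rw [hn]; unfold nM14; norm_num)
  have hno : ∀ {l₁ l₂ d₁ d₂ : ℕ}, Pr (2 ^ 1) l₁ d₁ → Pr (2 ^ 1) l₂ d₂ → 2 * 7 < Nat.lcm d₁ d₂ →
      2 * 7 < Nat.lcm 2 d₁ + Nat.lcm 2 d₂ → ∀ z : POmega F (quadFormMinus (7 - 1) F a b), orderOf z ≠ l₁ * l₂ :=
    fun P₁ P₂ h hs => noOrd_minus hF1 one_ne_zero P₁ P₂ hab (by norm_num) h hs
  have h43 : ∃ x : POmega F (quadFormMinus (7 - 1) F a b), 43 ∣ orderOf x :=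
    exists_elt (by norm_num) (by rw [hn]; decide +kernel)
  have h13 : ∃ x : POmega F (quadFormMinus (7 - 1) F a b), 13 ∣ orderOf x :=
    exists_elt (by norm_num) (by rw [hn]; decide +kernel)
  have h155 : ∃ x : POmega F (quadFormMinus (7 - 1) F a b), orderOf x = 155 := by
    have hq : Nat.card F = 2 := by rw [Nat.card_eq_fintype_card, hF]
    have h1 : H377.Elt F 5 1 31 := H377.elt_tor_plus (by norm_num) (by rw [hq]; norm_num)
    have h2 : H377.Elt F 2 (-1) 5 := H377.elt_tor_minus (by norm_num) (by rw [hq]; norm_num)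
    have h3 := h1.prod h2
    exact ((H377.Elt.two (by norm_num) (by decide) h3 : H377.Elt2 F 7 (-1) 155)).minus (by norm_num) hab
  obtain ⟨x, hx⟩ := h43
  obtain ⟨y, hy⟩ := h13
  obtain ⟨z, hz⟩ := h155
  have hxy : Inc x y := by
    refine inc_of_bad (bad_of_chk tab known (l := lM14) hn (by norm_num) (by norm_num)
      (hno pr43 pr13 (by decide) (by decide)) (by decide +kernel)) hx hy
  have hxz : Inc x z := by
    refine inc_of_bad (bad_of_chk tab known (l := lM14) hn (by norm_num) (by norm_num)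
      (hno pr43 pr31 (by decide) (by decide)) (by decide +kernel)) hx (by rw [hz]; norm_num)
  have hyz : Inc z y := by
    refine inc_of_ords tab known (l := lM14) hn (by norm_num) (by norm_num)
      (hno pr31 pr13 (by decide) (by decide)) (by decide +kernel) (by rw [hz]; norm_num) hy ?_
    intro g hg
    rw [surv31] at hg
    refine ⟨31 * 5, Or.inl (by rw [hz]), ?_⟩
    simp only [List.mem_cons, List.not_mem_nil, or_false] at hg
    rcases hg with rfl | rfl | rfl
    · exact ⟨by decide +kernel, noOrd_realPsl pr31_4 pr5_4 (by decide) (by decide)⟩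
    · exact ⟨by decide +kernel, noOrd_realPsp pr31 pr5 (by decide) (by decide)⟩
    · exact ⟨by decide +kernel, noOrd_realMinus (k := 1) one_ne_zero pr31 pr5 (by norm_num) (by decide) (by decide)⟩
  exact noTwo_of_three hxy hyz.symm hxz

end Cfsg.Agent.H25.Cov
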