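import Cfsg.Agent.H25.Cov.Comm
import Cfsg.Agent.H25.Cov.Desc
import Cfsg.Agent.H957.Bridge
import Cfsg.Agent.ClassicalGeometry.SympBasic
import Cfsg.Agent.LieClassical.OrthForms
import Cfsg.Agent.H377.ToOmega

/-!
# Orders which do not occur in linear, symplectic and orthogonal groups (S2499, helper25)

* `prOf` : `Pr q l d` by computation;
* `noOrd_psl`, `noOrd_psp`, `noOrd_pomega` : no element of order `l₁ l₂`;
* `noOrd_oplus`, `noOrd_ominus` (`q = 2`);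
* `exists_oplus`, `exists_ominus` : elements of odd order.
-/

set_option autoImplicit false

namespace Cfsg.Agent.H25.Cov

open Module Cfsg
open Cfsg.Agent.OrdDiv
open Cfsg.Agent.LieClassical.OrthCore (Nondeg)
open Cfsg.Agent.LieClassical.OrthForms
open scoped MatrixGroups Matrix

universe u

/-- the check for `Pr q l d` -/
def chkPr (q l d : ℕ) : Bool := (0 < d) && ((q ^ d - 1) % l == 0) && (List.range d).all fun i => (i == 0) || ((q ^ i - 1) % l != 0)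

theorem prOf {q l d : ℕ} (hl : l.Prime) (h : chkPr q l d = true) : Pr q l d := by
  unfold chkPr at h
  simp only [Bool.and_eq_true, List.all_eq_true, decide_eq_true_eq] at h
  obtain ⟨⟨h1, h2⟩, h3⟩ := h
  refine Pr.of hl h1 (Nat.dvd_of_mod_eq_zero (by simpa using h2)) ?_
  intro i hi hid hd
  have h4 := h3 i (List.mem_range.2 hid)
  rw [Nat.mod_eq_zero_of_dvd hd] at h4
  simp only [bne_self_eq_false, Bool.or_false, beq_iff_eq] at h4
  omega

/-- a group of matrices -/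
noncomputable def rhoOf {G ι F : Type*} [Group G] [Fintype ι] [DecidableEq ι] [Field F] (φ : G →* Matrix ι ι F) :
    G →* ((ι → F) ≃ₗ[F] (ι → F)) :=
  (LinearMap.GeneralLinearGroup.generalLinearEquiv F (ι → F)).toMonoidHom.comp
    (((Matrix.toLinAlgEquiv' : Matrix ι ι F ≃ₐ[F] ((ι → F) →ₗ[F] (ι → F))).toRingEquiv.toMonoidHom.comp φ).toHomUnits)

theorem rhoOf_apply {G ι F : Type*} [Group G] [Fintype ι] [DecidableEq ι] [Field F] (φ : G →* Matrix ι ι F)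
    (g : G) (v : ι → F) : rhoOf φ g v = φ g *ᵥ v := rfl

theorem rhoOf_injective {G ι F : Type*} [Group G] [Fintype ι] [DecidableEq ι] [Field F] {φ : G →* Matrix ι ι F}
    (hφ : Function.Injective φ) : Function.Injective (rhoOf φ) := by
  intro g h hgh
  apply hφ
  apply Matrix.ext_of_mulVec_single
  intro i
  rw [← rhoOf_apply, ← rhoOf_apply, hgh]

section psl

variable {F : Type u} [Field F] [Finite F] {n l₁ l₂ d₁ d₂ : ℕ}

theorem noOrd_psl (P₁ : Pr (Nat.card F) l₁ d₁) (P₂ : Pr (Nat.card F) l₂ d₂) (h : n < Nat.lcm d₁ d₂)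
    (hs : n < d₁ + d₂) (z : Matrix.ProjectiveSpecialLinearGroup (Fin n) F) : orderOf z ≠ l₁ * l₂ := by
  intro hz
  obtain ⟨y, hy⟩ := QuotientGroup.mk'_surjective _ z
  have hfin : Finite (Matrix.SpecialLinearGroup (Fin n) F) := by
    have : Finite (Matrix (Fin n) (Fin n) F) := inferInstance
    exact Subtype.finite
  obtain ⟨k, hk⟩ := H257.El.exists_lift _ (z := y) (by rw [hy, hz])
  let φ : Matrix.SpecialLinearGroup (Fin n) F →* Matrix (Fin n) (Fin n) F :=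
    { toFun := fun g => g
      map_one' := rfl
      map_mul' := fun g h => rfl }
  refine noOrd_lin (rhoOf φ) (rhoOf_injective (φ := φ) fun g h hgh => Subtype.ext hgh) P₁ P₂ ?_ ?_ _ hk
  · rw [Module.finrank_fin_fun]; exact h
  · rw [Module.finrank_fin_fun]; exact hs

theorem noOrd_realPsl {q : ℕ} (P₁ : Pr q l₁ d₁) (P₂ : Pr q l₂ d₂) (h : n < Nat.lcm d₁ d₂) (hs : n < d₁ + d₂) :
    NoOrd.{u} (.psl n q) (l₁ * l₂) := by
  rintro S _ _ ⟨F, _, _, rfl, ⟨e⟩⟩ z hz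
  rw [← Nat.card_eq_fintype_card] at P₁ P₂
  exact noOrd_psl P₁ P₂ h hs (e z) (by rw [MulEquiv.orderOf_eq, hz])

end psl

section psp

variable {F : Type u} [Field F] [Finite F] {m l₁ l₂ d₁ d₂ : ℕ}

theorem noOrd_psp (P₁ : Pr (Nat.card F) l₁ d₁) (P₂ : Pr (Nat.card F) l₂ d₂) (h : 2 * m < Nat.lcm d₁ d₂)
    (hs : 2 * m < Nat.lcm 2 d₁ + Nat.lcm 2 d₂) (z : PSp m F) : orderOf z ≠ l₁ * l₂ := by
  intro hz
  obtain ⟨y, hy⟩ := QuotientGroup.mk'_surjective _ z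
  have hfin : Finite (Matrix.symplecticGroup (Fin m) F) := by
    have : Finite (Matrix (Fin m ⊕ Fin m) (Fin m ⊕ Fin m) F) := inferInstance
    exact Subtype.finite
  obtain ⟨k, hk⟩ := H257.El.exists_lift _ (z := y) (by rw [hy, hz])
  let φ : Matrix.symplecticGroup (Fin m) F →* Matrix (Fin m ⊕ Fin m) (Fin m ⊕ Fin m) F :=
    { toFun := fun g => g
      map_one' := rfl
      map_mul' := fun g h => rfl }
  have hd : finrank F (Fin m ⊕ Fin m → F) = 2 * m := by simp; ring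
  refine noOrd_form (B := ClassicalGeometry.SympBasic.sympBilin m F)
    (fun v => ClassicalGeometry.SympBasic.sympBilin_isAlt v) (fun w hw => ?_)
    (rhoOf φ) (rhoOf_injective (φ := φ) fun g h hgh => Subtype.ext hgh) (fun g v w => ?_) P₁ P₂ ?_ ?_ _ hk
  · exact ClassicalGeometry.SympBasic.eq_zero_of_forall_sympForm_right hw
  · exact ClassicalGeometry.SympBasic.sympForm_mulVec g.2 v w
  · rw [hd]; exact h
  · rw [hd]; exact hs

theorem noOrd_realPsp {q : ℕ} (P₁ : Pr q l₁ d₁) (P₂ : Pr q l₂ d₂) (h : 2 * m < Nat.lcm d₁ d₂)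
    (hs : 2 * m < Nat.lcm 2 d₁ + Nat.lcm 2 d₂) :
    NoOrd.{u} (.psp m q) (l₁ * l₂) := by
  rintro S _ _ ⟨F, _, _, rfl, ⟨e⟩⟩ z hz
  rw [← Nat.card_eq_fintype_card] at P₁ P₂
  exact noOrd_psp P₁ P₂ h hs (e z) (by rw [MulEquiv.orderOf_eq, hz])

end psp

section pomega

variable {ι : Type} [Fintype ι] [DecidableEq ι] {F : Type u} [Field F] [Finite F] {Q : QuadraticForm F (ι → F)}
  {l₁ l₂ d₁ d₂ : ℕ}

/-- the matrices of `Ω` -/
def omM (Q : (ι → F) → F) : Omega F Q →* Matrix ι ι F :=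
  (Units.coeHom (Matrix ι ι F)).comp ((isometryGroup F Q).subtype.comp (Omega F Q).subtype)

omit [Finite F] in
theorem omM_injective {Q : (ι → F) → F} : Function.Injective (omM Q) := by
  intro g h hgh
  exact Subtype.ext (Subtype.ext (Units.ext hgh))

theorem finite_omega (Q : (ι → F) → F) : Finite (Omega F Q) := by
  have : Finite (Matrix ι ι F) := inferInstance
  exact Finite.of_injective _ (omM_injective (Q := Q))

omit [Finite F] in
theorem omM_polar (g : Omega F ⇑Q) (v w : ι → F) :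
    QuadraticMap.polar Q (rhoOf (omM ⇑Q) g v) (rhoOf (omM ⇑Q) g w) = QuadraticMap.polar Q v w := by
  have h : ∀ u, Q (rhoOf (omM ⇑Q) g u) = Q u := fun u => g.1.2 u u
  rw [QuadraticMap.polar, QuadraticMap.polar, ← map_add, h, h, h]

/-- characteristic two -/
theorem noOrd_pomega (h2 : (2 : F) = 0) (hQ : Nondeg Q) (P₁ : Pr (Nat.card F) l₁ d₁) (P₂ : Pr (Nat.card F) l₂ d₂)
    (h : Fintype.card ι < Nat.lcm d₁ d₂) (hs : Fintype.card ι < Nat.lcm 2 d₁ + Nat.lcm 2 d₂) (z : POmega F ⇑Q) :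
    orderOf z ≠ l₁ * l₂ := by
  intro hz
  obtain ⟨y, hy⟩ := QuotientGroup.mk'_surjective _ z
  have hfin := finite_omega (⇑Q)
  obtain ⟨k, hk⟩ := H257.El.exists_lift _ (z := y) (by rw [hy, hz])
  refine noOrd_form (B := QuadraticMap.polarBilin Q) (fun v => ?_) (fun w hw => hQ w hw)
    (rhoOf (omM ⇑Q)) (rhoOf_injective omM_injective) (fun g v w => omM_polar g v w) P₁ P₂ ?_ ?_ _ hk
  · rw [QuadraticMap.polarBilin_apply_apply, QuadraticMap.polar_self, two_nsmul, ← two_mul, h2, zero_mul]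
  · rw [Module.finrank_fintype_fun_eq_card]; exact h
  · rw [Module.finrank_fintype_fun_eq_card]; exact hs

end pomega

section even

variable {F : Type u} [Field F] [Fintype F] {m l₁ l₂ d₁ d₂ : ℕ}

theorem two_eq_zero {k : ℕ} (h : Fintype.card F = 2 ^ k) (hk : k ≠ 0) : (2 : F) = 0 := by
  have h1 : (Fintype.card F : F) = 0 := Nat.cast_card_eq_zero F
  rw [h, Nat.cast_pow] at h1
  exact_mod_cast (pow_eq_zero_iff hk).1 h1

theorem noOrd_plus {k : ℕ} (hF : Fintype.card F = 2 ^ k) (hk : k ≠ 0) (P₁ : Pr (2 ^ k) l₁ d₁) (P₂ : Pr (2 ^ k) l₂ d₂)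
    (h : 2 * m < Nat.lcm d₁ d₂) (hs : 2 * m < Nat.lcm 2 d₁ + Nat.lcm 2 d₂) (z : POmega F (quadFormPlus m F)) :
    orderOf z ≠ l₁ * l₂ := by
  rw [← hF, ← Nat.card_eq_fintype_card] at P₁ P₂
  have hc : Fintype.card (Fin m ⊕ Fin m) = 2 * m := by simp; ring
  revert z
  rw [← coe_plusForm]
  exact noOrd_pomega (two_eq_zero hF hk) (nondeg_plusForm m F) P₁ P₂ (by rw [hc]; exact h) (by rw [hc]; exact hs)

theorem noOrd_minus {k : ℕ} (hF : Fintype.card F = 2 ^ k) (hk : k ≠ 0) (P₁ : Pr (2 ^ k) l₁ d₁) (P₂ : Pr (2 ^ k) l₂ d₂)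
    {a b : F} (hab : ∀ z₁ z₂ : F, z₁ ^ 2 + a * z₁ * z₂ + b * z₂ ^ 2 = 0 → z₁ = 0 ∧ z₂ = 0) (hm : 1 ≤ m)
    (h : 2 * m < Nat.lcm d₁ d₂) (hs : 2 * m < Nat.lcm 2 d₁ + Nat.lcm 2 d₂)
    (z : POmega F (quadFormMinus (m - 1) F a b)) : orderOf z ≠ l₁ * l₂ := by
  rw [← hF, ← Nat.card_eq_fintype_card] at P₁ P₂
  have hc : Fintype.card ((Fin (m - 1) ⊕ Fin (m - 1)) ⊕ Fin 2) = 2 * m := by
    simp only [Fintype.card_sum, Fintype.card_fin]
    omega
  revert z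
  rw [← coe_minusForm]
  exact noOrd_pomega (two_eq_zero hF hk) (nondeg_minusForm (m - 1) F a b hab) P₁ P₂ (by rw [hc]; exact h)
    (by rw [hc]; exact hs)

theorem noOrd_realPlus {k : ℕ} (hk : k ≠ 0) (P₁ : Pr (2 ^ k) l₁ d₁) (P₂ : Pr (2 ^ k) l₂ d₂)
    (h : 2 * m < Nat.lcm d₁ d₂) (hs : 2 * m < Nat.lcm 2 d₁ + Nat.lcm 2 d₂) :
    NoOrd.{u} (.oplus m (2 ^ k)) (l₁ * l₂) := by
  rintro S _ _ ⟨F, _, _, hF, ⟨e⟩⟩ z hz
  exact noOrd_plus hF hk P₁ P₂ h hs (e z) (by rw [MulEquiv.orderOf_eq, hz])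

theorem noOrd_realMinus {k : ℕ} (hk : k ≠ 0) (P₁ : Pr (2 ^ k) l₁ d₁) (P₂ : Pr (2 ^ k) l₂ d₂) (hm : 1 ≤ m)
    (h : 2 * m < Nat.lcm d₁ d₂) (hs : 2 * m < Nat.lcm 2 d₁ + Nat.lcm 2 d₂) :
    NoOrd.{u} (.ominus m (2 ^ k)) (l₁ * l₂) := by
  rintro S _ _ ⟨F, _, _, a, b, hF, hab, ⟨e⟩⟩ z hz
  exact noOrd_minus hF hk P₁ P₂ hab hm h hs (e z) (by rw [MulEquiv.orderOf_eq, hz])

end even

end Cfsg.Agent.H25.Cov
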