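import Cfsg.Agent.H25.Cov.OoddC
import Cfsg.Agent.H558.Cov.OgO
import Cfsg.Agent.H906.Cov.EKill
import Cfsg.Agent.H906.Cov.Num

/-!
# S2499, `Ω_{2m+1}(q)`, `q` odd, `m ≥ 5` (helper25), closed form modulo `S5948`
-/

set_option autoImplicit false

namespace Cfsg.Agent.H25.Cov

open Cfsg Cfsg.Geo Cfsg.Agent.H278.Cov

universe u

/-- **COV-OODD** -/
theorem noTwo_oodd (hP : H659.CovCore.S5948Stmt.{u}) {F : Type u} [Field F] [Fintype F] {m : ℕ} (hm : 5 ≤ m)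
    (hodd : Odd (Fintype.card F)) : NoTwo (POmega F (quadFormOdd m F)) :=
  noTwo_oodd_of (fun hQ _ hle hne _ hg hn => H558.Cov.og_o hP hQ hle hne hg hn)
    (fun hr _ hE _ ht hco P => H906.Cov.ext_dvd hr hE ht hco P)
    (fun h1 h2 h3 h4 h5 h6 => H906.Cov.exists_num h1 h2 h3 h4 h5 h6) hm hodd

end Cfsg.Agent.H25.Cov
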