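import Cfsg.Agent.H25.Cov.Unip
import Cfsg.Agent.H957.Bridge
import Cfsg.Agent.H278.Cov.ClDefs
import Cfsg.Agent.H994.TwoGen.Basic
import Cfsg.Agent.S0286
import Cfsg.Agent.S0292
import Cfsg.Agent.Lib.Zsigmondy

/-!
# S2499, `Ω_{2m+1}(q)`, `q` odd, `m ≥ 5`: the three classes are pairwise incompatible (helper25)
-/

set_option autoImplicit false

namespace Cfsg.Agent.H25.Cov

open Module QuadraticMap Cfsg Cfsg.Geo Cfsg.Agent.H278.Cov
open scoped MatrixGroups

universe u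

/-- OG-O of `tools/plans/S2499_stubs.lean.txt` -/
def OgO : Prop :=
  ∀ {ι : Type} [Fintype ι] [DecidableEq ι] {F : Type u} [Field F] [Fintype F] {k : ℕ}
    {Q : (ι → F) → F} (_ : IsNondegenerateQuadraticForm Q)
    {H : Subgroup (GL ι F)} (_ : H ≤ omegaGL Q) (_ : H ≠ omegaGL Q)
    {g : GL ι F} (_ : g ∈ H) (_ : Num (Fintype.card F) (Fintype.card ι) k (orderOf g)),
    Red H ∨ Ext (Nat.gcd (Fintype.card ι) k) H

/-- E-KILL of the stubs -/
def ExtDvd : Prop :=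
  ∀ {ι : Type} [Fintype ι] [DecidableEq ι] {F : Type u} [Field F] [Finite F] {r : ℕ} (_ : r.Prime)
    {E : Subalgebra F (Matrix ι ι F)} (_ : IsFieldSubalgebra r E) {t : GL ι F} (_ : t ∈ subalgebraNormalizer E)
    (_ : Nat.Coprime (orderOf t) r) (P : Polynomial F),
    r ∣ Module.finrank F (LinearMap.ker (Polynomial.aeval (Matrix.toLin' (t : Matrix ι ι F)) P))

section classes

variable {F V : Type*} [Field F] [AddCommGroup V] [Module F V] (Q : QuadraticForm F V) (q m : ℕ)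

/-- class `A`: block `neg m` -/
structure TA (a : V ≃ₗ[F] V) : Prop where
  iso : a ∈ H957.isoQ Q
  num : Num q (2 * m + 1) (2 * m) (orderOf a)
  pr : ∃ (l : ℕ) (x : V ≃ₗ[F] V), Pr q l (2 * m) ∧ x ∈ Subgroup.zpowers a ∧ x ^ l = 1 ∧ x ≠ 1

/-- class `B`: blocks `neg (m - 1)` and a regular unipotent element in dimension three -/
structure TB (b : V ≃ₗ[F] V) : Prop where
  iso : b ∈ H957.isoQ Q
  pr : ∃ (l : ℕ) (x g : V ≃ₗ[F] V), g ∈ Subgroup.zpowers b ∧ Num q (2 * m + 1) (2 * m - 2) (orderOf g) ∧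
    Pr q l (2 * m - 2) ∧ x ∈ Subgroup.zpowers g ∧ x ^ l = 1 ∧ x ≠ 1 ∧
    ∀ v ∈ fx x, ∀ c : F, b v = c • v → Q v = 0

/-- class `C`: block `pos m` -/
structure TC (c : V ≃ₗ[F] V) : Prop where
  iso : c ∈ H957.isoQ Q
  pr : ∃ l : ℕ, Pr q l m ∧ c ^ l = 1
  line : ∃ w : V, Q w ≠ 0 ∧ c w = w ∧ (∀ v, c v = v → ∃ r : F, v = r • w) ∧
    ∀ x ∈ H957.isoQ Q, x w = w → ∀ l, Pr q l (2 * m) → x ^ l = 1 → x = 1

end classes

section conj

variable {F V : Type*} [Field F] [AddCommGroup V] [Module F V] {Q : QuadraticForm F V} {q m : ℕ}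

theorem isoQ_conj {a g : V ≃ₗ[F] V} (ha : a ∈ H957.isoQ Q) (hg : g ∈ H957.isoQ Q) :
    g * a * g⁻¹ ∈ H957.isoQ Q := mul_mem (mul_mem hg ha) (inv_mem hg)

theorem orderOf_conj {G : Type*} [Group G] (g a : G) : orderOf (g * a * g⁻¹) = orderOf a :=
  orderOf_injective (MulAut.conj g).toMonoidHom (MulAut.conj g).injective a

theorem zpowers_conj {G : Type*} [Group G] {g a x : G} (h : x ∈ Subgroup.zpowers a) :
    g * x * g⁻¹ ∈ Subgroup.zpowers (g * a * g⁻¹) := by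
  obtain ⟨n, rfl⟩ := Subgroup.mem_zpowers_iff.1 h
  exact ⟨n, conj_zpow⟩

theorem conj_ne_one {G : Type*} [Group G] {g x : G} (h : x ≠ 1) : g * x * g⁻¹ ≠ 1 := by
  intro h1
  apply h
  rwa [conj_eq_one_iff] at h1

theorem TA.conj {a g : V ≃ₗ[F] V} (h : TA Q q m a) (hg : g ∈ H957.isoQ Q) : TA Q q m (g * a * g⁻¹) := by
  refine ⟨isoQ_conj h.iso hg, by rw [orderOf_conj]; exact h.num, ?_⟩
  obtain ⟨l, x, h1, h2, h3, h4⟩ := h.pr
  exact ⟨l, g * x * g⁻¹, h1, zpowers_conj h2, by rw [conj_pow, h3]; group, conj_ne_one h4⟩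

theorem TB.conj {b g : V ≃ₗ[F] V} (h : TB Q q m b) (hg : g ∈ H957.isoQ Q) : TB Q q m (g * b * g⁻¹) := by
  refine ⟨isoQ_conj h.iso hg, ?_⟩
  obtain ⟨l, x, y, h1, h2, h3, h4, h5, h6, h7⟩ := h.pr
  refine ⟨l, g * x * g⁻¹, g * y * g⁻¹, zpowers_conj h1, by rw [orderOf_conj]; exact h2, h3, zpowers_conj h4,
    by rw [conj_pow, h5]; group, conj_ne_one h6, ?_⟩
  intro v hv c hc
  have h8 : g⁻¹ v ∈ fx x := by
    rw [mem_fx] at hv ⊢
    have h9 : g (x (g⁻¹ v)) = v := hv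
    have h10 := congrArg (fun w => g⁻¹ w) h9
    have h11 : g⁻¹ (g (x (g⁻¹ v))) = x (g⁻¹ v) := by
      rw [← LinearEquiv.mul_apply, inv_mul_cancel]; rfl
    rw [← h11]; exact h10
  have h9 : b (g⁻¹ v) = c • g⁻¹ v := by
    have h10 : g (b (g⁻¹ v)) = c • v := hc
    have h11 := congrArg (fun w => g⁻¹ w) h10
    have h12 : g⁻¹ (g (b (g⁻¹ v))) = b (g⁻¹ v) := by
      rw [← LinearEquiv.mul_apply, inv_mul_cancel]; rfl
    rw [← h12, ← map_smul]; exact h11
  have h10 := h7 _ h8 c h9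
  rwa [inv_mem hg v] at h10

theorem TC.conj {c g : V ≃ₗ[F] V} (h : TC Q q m c) (hg : g ∈ H957.isoQ Q) : TC Q q m (g * c * g⁻¹) := by
  have hgi : ∀ v, g⁻¹ (g v) = v := fun v => by rw [← LinearEquiv.mul_apply, inv_mul_cancel]; rfl
  have hig : ∀ v, g (g⁻¹ v) = v := fun v => by rw [← LinearEquiv.mul_apply, mul_inv_cancel]; rfl
  refine ⟨isoQ_conj h.iso hg, ?_, ?_⟩
  · obtain ⟨l, h1, h2⟩ := h.pr
    exact ⟨l, h1, by rw [conj_pow, h2]; group⟩
  · obtain ⟨w, h1, h2, h3, h4⟩ := h.line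
    refine ⟨g w, by rw [hg w]; exact h1, ?_, ?_, ?_⟩
    · show g (c (g⁻¹ (g w))) = g w
      rw [hgi, h2]
    · intro v hv
      have hv' : g (c (g⁻¹ v)) = v := hv
      obtain ⟨r, hr⟩ := h3 (g⁻¹ v) (by
        have := congrArg (fun w => g⁻¹ w) hv'
        simpa only [hgi] using this)
      exact ⟨r, by rw [← map_smul, ← hr, hig]⟩
    · intro x hx hxw l hl hxl
      have h5 := h4 (g⁻¹ * x * g⁻¹⁻¹) (isoQ_conj hx (inv_mem hg)) (by
        rw [inv_inv]
        show g⁻¹ (x (g w)) = w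
        rw [hxw, hgi]) l hl (by rw [conj_pow, hxl]; group)
      rwa [conj_eq_one_iff] at h5

end conj

section lines

variable {F V : Type*} [Field F] [Finite F] [AddCommGroup V] [Module F V] [FiniteDimensional F V]
  {Q : QuadraticForm F V} {m : ℕ}

/-- invariant lines lie in the fixed space -/
theorem line_le_fx {l d : ℕ} (P : Pr (Nat.card F) l d) (hd : 2 ≤ d) {x : V ≃ₗ[F] V} (hx : x ^ l = 1)
    {L : Submodule F V} (hL : finrank F L = 1) (hxL : ∀ v ∈ L, x v ∈ L) : L ≤ fx x := by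
  obtain ⟨k, hk⟩ := dvd_dim P hx L hxL
  have h1 : finrank F (L ⊓ fx x : Submodule F V) ≤ finrank F L := Submodule.finrank_mono inf_le_left
  have h2 : k = 0 := by
    by_contra hcon
    have : d * 1 ≤ d * k := Nat.mul_le_mul_left d (by omega)
    omega
  subst h2
  have h3 : (L ⊓ fx x : Submodule F V) = L := by
    apply Submodule.eq_of_le_of_finrank_eq inf_le_left
    omega
  rw [← h3]
  exact inf_le_right

/-- the orthogonal complement -/
def pp (Q : QuadraticForm F V) (X : Submodule F V) : Submodule F V := LinearMap.BilinForm.orthogonal (polarBilin Q) X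

omit [Finite F] [FiniteDimensional F V] in
theorem mem_pp {X : Submodule F V} {v : V} : v ∈ pp Q X ↔ ∀ w ∈ X, polar Q w v = 0 := by
  unfold pp
  rw [LinearMap.BilinForm.mem_orthogonal_iff]
  rfl

omit [Finite F] in
theorem finrank_pp (hQ : (polarBilin Q).Nondegenerate) (X : Submodule F V) :
    finrank F (pp Q X) = finrank F V - finrank F X :=
  LinearMap.BilinForm.finrank_orthogonal hQ X

omit [Finite F] in
theorem pp_inv {X : Submodule F V} {g : V ≃ₗ[F] V} (hg : g ∈ H957.isoQ Q) (h : ∀ v ∈ X, g v ∈ X) :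
    ∀ v ∈ pp Q X, g v ∈ pp Q X := by
  intro v hv
  rw [mem_pp] at hv ⊢
  intro w hw
  -- `w = g w'` with `w' ∈ X`
  have hsurj : X.map (g : V →ₗ[F] V) = X := by
    apply Submodule.eq_of_le_of_finrank_eq
    · rintro y ⟨z, hz, rfl⟩
      exact h z hz
    · exact LinearEquiv.finrank_map_eq g X
  rw [← hsurj] at hw
  obtain ⟨z, hz, rfl⟩ := hw
  have := H957.polar_iso hg z v
  rw [polarBilin_apply_apply, polarBilin_apply_apply] at this
  rw [← hv z hz, ← this]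
  rfl

theorem inv_of_zpowers {X : Submodule F V} {g x : V ≃ₗ[F] V} (h : ∀ v ∈ X, g v ∈ X) (hx : x ∈ Subgroup.zpowers g) :
    ∀ v ∈ X, x v ∈ X := by
  have hfin : Finite V := Module.finite_of_finite F
  have : Finite (V ≃ₗ[F] V) := Finite.of_injective (fun e : V ≃ₗ[F] V => (e : V → V)) DFunLike.coe_injective
  rw [← (isOfFinOrder_of_finite g).mem_powers_iff_mem_zpowers] at hx
  obtain ⟨n, rfl⟩ := hx
  show ∀ v ∈ X, (g ^ n) v ∈ X
  induction n with
  | zero => intro v hv; exact hv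
  | succ n ih => intro v hv; rw [pow_succ]; exact ih _ (h v hv)

/-- **`A` and `B` have no common invariant line** -/
theorem no_line_AB (hQ : ∀ w, (∀ v, polar Q v w = 0) → w = 0) (h2 : (2 : F) ≠ 0) (hm : 5 ≤ m)
    (hV : finrank F V = 2 * m + 1) {a b : V ≃ₗ[F] V} (ha : TA Q (Nat.card F) m a) (hb : TB Q (Nat.card F) m b)
    {L : Submodule F V} (hL : finrank F L = 1) (haL : ∀ v ∈ L, a v ∈ L) (hbL : ∀ v ∈ L, b v ∈ L) : False := by
  obtain ⟨l, x, P, hxa, hxl, hx1⟩ := ha.pr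
  obtain ⟨l', x', g, hgb, -, P', hxg, hxl', hx1', hsing⟩ := hb.pr
  have h1 : L ≤ fx x := line_le_fx P (by omega) hxl hL (inv_of_zpowers haL hxa)
  have h3 : L ≤ fx x' := line_le_fx P' (by omega) hxl' hL (inv_of_zpowers (inv_of_zpowers hbL hgb) hxg)
  obtain ⟨v, hv, hspan⟩ := finrank_eq_one_iff'.1 hL
  have hv0 : (v : V) ≠ 0 := fun h => hv (Subtype.ext h)
  obtain ⟨c, hc⟩ := hspan ⟨b v, hbL v v.2⟩
  have hc' : b (v : V) = c • (v : V) := (congrArg Subtype.val hc).symm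
  have hQv : Q (v : V) = 0 := hsing v (h3 v.2) c hc'
  -- `fx x` is a line
  have hfx : finrank F (fx x) = 1 := by
    have h4 := finrank_mv_eq P hxl hx1 (by omega)
    have h5 := finrank_mv x
    omega
  have hLx : L = fx x := Submodule.eq_of_le_of_finrank_eq h1 (by omega)
  apply hv0
  have hxQ : x ∈ H957.isoQ Q := by
    obtain ⟨n, hn⟩ := Subgroup.mem_zpowers_iff.1 hxa
    rw [← hn]; exact Subgroup.zpow_mem _ ha.iso n
  apply nd_fx hQ hxQ P.cast_ne_zero hxl (h1 v.2)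
  intro w hw
  rw [← hLx] at hw
  obtain ⟨d, hd⟩ := hspan ⟨w, hw⟩
  have hd' : w = d • (v : V) := (congrArg Subtype.val hd).symm
  rw [hd', polar_smul_left, polar_self, hQv]
  simp

/-- **`A` and `C` have no common invariant line** -/
theorem no_line_AC (hm : 5 ≤ m) {a c : V ≃ₗ[F] V} (ha : TA Q (Nat.card F) m a) (hc : TC Q (Nat.card F) m c)
    {L : Submodule F V} (hL : finrank F L = 1) (haL : ∀ v ∈ L, a v ∈ L) (hcL : ∀ v ∈ L, c v ∈ L) : False := by
  obtain ⟨l, x, P, hxa, hxl, hx1⟩ := ha.pr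
  obtain ⟨l', P', hcl⟩ := hc.pr
  obtain ⟨w, hw, hcw, hline, hfin⟩ := hc.line
  have h1 : L ≤ fx x := line_le_fx P (by omega) hxl hL (inv_of_zpowers haL hxa)
  have h3 : L ≤ fx c := line_le_fx P' (by omega) hcl hL hcL
  obtain ⟨v, hv, hspan⟩ := finrank_eq_one_iff'.1 hL
  obtain ⟨r, hr⟩ := hline v (mem_fx.1 (h3 v.2))
  have hr0 : r ≠ 0 := by
    rintro rfl
    apply hv
    apply Subtype.ext
    rw [hr, zero_smul]; rfl
  have hxQ : x ∈ H957.isoQ Q := by
    obtain ⟨n, hn⟩ := Subgroup.mem_zpowers_iff.1 hxa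
    rw [← hn]; exact Subgroup.zpow_mem _ ha.iso n
  apply hx1
  apply hfin x hxQ _ l P hxl
  have hxv : x (v : V) = v := mem_fx.1 (h1 v.2)
  rw [hr, map_smul] at hxv
  exact smul_right_injective V hr0 hxv

/-- **`B` and `C` have no common invariant line** -/
theorem no_line_BC (hm : 5 ≤ m) {b c : V ≃ₗ[F] V} (hb : TB Q (Nat.card F) m b) (hc : TC Q (Nat.card F) m c)
    {L : Submodule F V} (hL : finrank F L = 1) (hbL : ∀ v ∈ L, b v ∈ L) (hcL : ∀ v ∈ L, c v ∈ L) : False := by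
  obtain ⟨l, x, g, hgb, -, P, hxg, hxl, hx1, hsing⟩ := hb.pr
  obtain ⟨l', P', hcl⟩ := hc.pr
  obtain ⟨w, hw, hcw, hline, hfin⟩ := hc.line
  have h1 : L ≤ fx x := line_le_fx P (by omega) hxl hL (inv_of_zpowers (inv_of_zpowers hbL hgb) hxg)
  have h3 : L ≤ fx c := line_le_fx P' (by omega) hcl hL hcL
  obtain ⟨v, hv, hspan⟩ := finrank_eq_one_iff'.1 hL
  obtain ⟨r, hr⟩ := hline v (mem_fx.1 (h3 v.2))
  have hr0 : r ≠ 0 := by
    rintro rfl
    apply hv
    apply Subtype.ext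
    rw [hr, zero_smul]; rfl
  obtain ⟨e, he⟩ := hspan ⟨b v, hbL v v.2⟩
  have he' : b (v : V) = e • (v : V) := (congrArg Subtype.val he).symm
  have hQv : Q (v : V) = 0 := hsing v (h1 v.2) e he'
  rw [hr, QuadraticMap.map_smul] at hQv
  rcases smul_eq_zero.1 hQv with h4 | h4
  · exact hr0 (mul_self_eq_zero.1 h4)
  · exact hw h4

/-- an invariant subspace of `A` gives an invariant line -/
theorem line_of_A (hQ : (polarBilin Q).Nondegenerate) (hm : 5 ≤ m)
    (hV : finrank F V = 2 * m + 1) {a y : V ≃ₗ[F] V} (ha : TA Q (Nat.card F) m a) (hy : y ∈ H957.isoQ Q)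
    {X : Submodule F V} (hX0 : X ≠ ⊥) (hX1 : X ≠ ⊤) (haX : ∀ v ∈ X, a v ∈ X) (hyX : ∀ v ∈ X, y v ∈ X) :
    ∃ L : Submodule F V, finrank F L = 1 ∧ (∀ v ∈ L, a v ∈ L) ∧ ∀ v ∈ L, y v ∈ L := by
  obtain ⟨l, x, P, hxa, hxl, hx1⟩ := ha.pr
  have hfx : finrank F (fx x) = 1 := by
    have h4 := finrank_mv_eq P hxl hx1 (by omega)
    have h5 := finrank_mv x
    omega
  have h1 := dvd_dim P hxl X (inv_of_zpowers haX hxa)
  have h2 : finrank F (X ⊓ fx x : Submodule F V) ≤ finrank F (fx x) := Submodule.finrank_mono inf_le_right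
  have h3 : 0 < finrank F X := by
    rw [pos_iff_ne_zero]; intro h; exact hX0 (Submodule.finrank_eq_zero.1 h)
  have h4 : finrank F X < finrank F V := Submodule.finrank_lt hX1
  obtain ⟨k, hk⟩ := h1
  have h5 : finrank F X = 1 ∨ finrank F X = 2 * m := by
    rcases Nat.eq_zero_or_pos k with rfl | hk0
    · left; omega
    · right
      have : 2 * m * 1 ≤ 2 * m * k := Nat.mul_le_mul_left _ hk0
      omega
  rcases h5 with h5 | h5
  · exact ⟨X, h5, haX, hyX⟩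
  · exact ⟨pp Q X, by rw [finrank_pp hQ]; omega, pp_inv ha.iso haX, pp_inv hy hyX⟩

/-- a common invariant subspace of `B` and `C` gives a common invariant line -/
theorem line_of_BC (hQ : (polarBilin Q).Nondegenerate) (hm : 5 ≤ m)
    (hV : finrank F V = 2 * m + 1) {b c : V ≃ₗ[F] V} (hb : TB Q (Nat.card F) m b) (hc : TC Q (Nat.card F) m c)
    {X : Submodule F V} (hX0 : X ≠ ⊥) (hX1 : X ≠ ⊤) (hbX : ∀ v ∈ X, b v ∈ X) (hcX : ∀ v ∈ X, c v ∈ X) :
    ∃ L : Submodule F V, finrank F L = 1 ∧ (∀ v ∈ L, b v ∈ L) ∧ ∀ v ∈ L, c v ∈ L := by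
  obtain ⟨l, x, g, hgb, -, P, hxg, hxl, hx1, -⟩ := hb.pr
  obtain ⟨l', P', hcl⟩ := hc.pr
  obtain ⟨w, hw, hcw, hline, -⟩ := hc.line
  have hfx : finrank F (fx x) = 3 := by
    have h4 := finrank_mv_eq P hxl hx1 (by omega)
    have h5 := finrank_mv x
    omega
  have hfc : finrank F (fx c) ≤ 1 := by
    apply finrank_le_one (⟨w, mem_fx.2 hcw⟩ : fx c)
    intro v
    obtain ⟨r, hr⟩ := hline v (mem_fx.1 v.2)
    exact ⟨r, Subtype.ext hr.symm⟩
  obtain ⟨i, hi⟩ := dvd_dim P hxl X (inv_of_zpowers (inv_of_zpowers hbX hgb) hxg)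
  obtain ⟨j, hj⟩ := dvd_dim P' hcl X hcX
  have h1 : finrank F (X ⊓ fx x : Submodule F V) ≤ finrank F (fx x) := Submodule.finrank_mono inf_le_right
  have h1' : finrank F (X ⊓ fx x : Submodule F V) ≤ finrank F X := Submodule.finrank_mono inf_le_left
  have h2 : finrank F (X ⊓ fx c : Submodule F V) ≤ finrank F (fx c) := Submodule.finrank_mono inf_le_right
  have h2' : finrank F (X ⊓ fx c : Submodule F V) ≤ finrank F X := Submodule.finrank_mono inf_le_left
  have h3 : 0 < finrank F X := by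
    rw [pos_iff_ne_zero]; intro h; exact hX0 (Submodule.finrank_eq_zero.1 h)
  have h4 : finrank F X < finrank F V := Submodule.finrank_lt hX1
  have h5 : finrank F X = 1 ∨ finrank F X = 2 * m := by
    have hi' : i ≤ 1 := by
      by_contra hcon
      have : (2 * m - 2) * 2 ≤ (2 * m - 2) * i := Nat.mul_le_mul_left _ (by omega)
      omega
    have hj' : j ≤ 2 := by
      by_contra hcon
      have : m * 3 ≤ m * j := Nat.mul_le_mul_left _ (by omega)
      omega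
    interval_cases i <;> interval_cases j <;> omega
  rcases h5 with h5 | h5
  · exact ⟨X, h5, hbX, hcX⟩
  · exact ⟨pp Q X, by rw [finrank_pp hQ]; omega, pp_inv hb.iso hbX, pp_inv hc.iso hcX⟩

end lines

end Cfsg.Agent.H25.Cov
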