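import Cfsg.Agent.H25.Cov.OoddA
import Cfsg.Agent.S0289

/-!
# S2499, `Ω_{2m+1}(q)`, `q` odd, `m ≥ 5`: existence of the elements (helper25)
-/

set_option autoImplicit false

namespace Cfsg.Agent.H25.Cov

open Module QuadraticMap Cfsg Cfsg.Geo Cfsg.Agent.H278.Cov Matrix
open LieClassical.QuadForms (oddForm oddForm_apply coe_oddForm polar_oddForm)
open scoped MatrixGroups

universe u

theorem sep_right {F V : Type*} [Field F] [AddCommGroup V] [Module F V] {Q : QuadraticForm F V}
    (hQ : (polarBilin Q).Nondegenerate) : ∀ w, (∀ v, polar Q v w = 0) → w = 0 := fun w hw => hQ.2 w hw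

/-- fixed points of an element of prime order on a set of vectors -/
theorem dvd_card_sub_one {S : Type*} [Finite S] {l : ℕ} (hl : l.Prime) (f : S → S) (hf : f^[l] = id) (s₀ : S)
    (h0 : f s₀ = s₀) (hfix : ∀ s, f s = s → s = s₀) : l ∣ Nat.card S - 1 := by
  classical
  have : Fact l.Prime := ⟨hl⟩
  have : Fintype S := Fintype.ofFinite S
  let g : Function.End S := f
  have hg : ∀ n : ℕ, (g ^ n : S → S) = f^[n] := by
    intro n
    induction n with
    | zero => rfl
    | succ n ih =>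
      rw [pow_succ, Function.iterate_succ]
      change (g ^ n : S → S) ∘ f = _
      rw [ih]
  have hg1 : g ^ l ^ 1 = 1 := by
    rw [pow_one]
    have := hg l
    rw [hf] at this
    exact this
  have h1 := Equiv.Perm.card_fixedPoints_modEq hg1
  have h2 : Nat.card (Function.fixedPoints g) = 1 := by
    rw [Nat.card_eq_one_iff_unique]
    refine ⟨⟨fun a b => ?_⟩, ⟨⟨s₀, h0⟩⟩⟩
    apply Subtype.ext
    rw [hfix a.1 a.2, hfix b.1 b.2]
  rw [← Nat.card_eq_fintype_card, ← Nat.card_eq_fintype_card, h2] at h1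
  have h3 : 1 ≤ Nat.card S := Nat.one_le_iff_ne_zero.2 (Nat.card_ne_zero.2 ⟨⟨s₀⟩, inferInstance⟩)
  exact (Nat.modEq_iff_dvd' h3).1 h1.symm

section coord

variable {F : Type u} [Field F] {m : ℕ}

/-- block diagonal endomorphism `1 ⊕ A ⊕ B` -/
def hl (A B : Matrix (Fin m) (Fin m) F) : Module.End F (Unit ⊕ (Fin m ⊕ Fin m) → F) where
  toFun v := Sum.elim (fun _ => v (.inl ()))
    (Sum.elim (A *ᵥ fun i => v (.inr (.inl i))) (B *ᵥ fun i => v (.inr (.inr i))))
  map_add' v w := by
    funext i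
    rcases i with i | i | i
    · rfl
    · exact congrFun (Matrix.mulVec_add A (fun i => v (.inr (.inl i))) fun i => w (.inr (.inl i))) i
    · exact congrFun (Matrix.mulVec_add B (fun i => v (.inr (.inr i))) fun i => w (.inr (.inr i))) i
  map_smul' c v := by
    funext i
    rcases i with i | i | i
    · rfl
    · exact congrFun (Matrix.mulVec_smul A c (fun i => v (.inr (.inl i)))) i
    · exact congrFun (Matrix.mulVec_smul B c (fun i => v (.inr (.inr i)))) i

theorem hl_l (A B : Matrix (Fin m) (Fin m) F) (v : Unit ⊕ (Fin m ⊕ Fin m) → F) :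
    hl A B v (.inl ()) = v (.inl ()) := rfl

theorem hl_rl (A B : Matrix (Fin m) (Fin m) F) (v : Unit ⊕ (Fin m ⊕ Fin m) → F) (i : Fin m) :
    hl A B v (.inr (.inl i)) = (A *ᵥ fun i => v (.inr (.inl i))) i := rfl

theorem hl_rr (A B : Matrix (Fin m) (Fin m) F) (v : Unit ⊕ (Fin m ⊕ Fin m) → F) (i : Fin m) :
    hl A B v (.inr (.inr i)) = (B *ᵥ fun i => v (.inr (.inr i))) i := rfl

theorem hl_mul (A B A' B' : Matrix (Fin m) (Fin m) F) : hl A B * hl A' B' = hl (A * A') (B * B') := by
  apply LinearMap.ext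
  intro v
  funext i
  rcases i with i | i | i
  · rfl
  · show (A *ᵥ (A' *ᵥ fun i => v (.inr (.inl i)))) i = ((A * A') *ᵥ fun i => v (.inr (.inl i))) i
    rw [Matrix.mulVec_mulVec]
  · show (B *ᵥ (B' *ᵥ fun i => v (.inr (.inr i)))) i = ((B * B') *ᵥ fun i => v (.inr (.inr i))) i
    rw [Matrix.mulVec_mulVec]

theorem hl_one : hl (1 : Matrix (Fin m) (Fin m) F) 1 = 1 := by
  apply LinearMap.ext
  intro v
  funext i
  rcases i with i | i | i
  · rfl
  · show ((1 : Matrix (Fin m) (Fin m) F) *ᵥ fun i => v (.inr (.inl i))) i = _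
    rw [Matrix.one_mulVec]; rfl
  · show ((1 : Matrix (Fin m) (Fin m) F) *ᵥ fun i => v (.inr (.inr i))) i = _
    rw [Matrix.one_mulVec]; rfl

/-- the Levi subgroup `GL_m` of `O_{2m+1}` -/
def lev : GL (Fin m) F →* ((Unit ⊕ (Fin m ⊕ Fin m) → F) ≃ₗ[F] (Unit ⊕ (Fin m ⊕ Fin m) → F)) where
  toFun c := LinearEquiv.ofLinearMap (hl (c : Matrix (Fin m) (Fin m) F) ((c⁻¹ : GL (Fin m) F) : Matrix _ _ F)ᵀ)
    (hl ((c⁻¹ : GL (Fin m) F) : Matrix _ _ F) (c : Matrix (Fin m) (Fin m) F)ᵀ)
    (by
      show hl _ _ * hl _ _ = 1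
      rw [hl_mul, ← Matrix.transpose_mul, ← Units.val_mul, mul_inv_cancel, Units.val_one, Matrix.transpose_one,
        hl_one])
    (by
      show hl _ _ * hl _ _ = 1
      rw [hl_mul, ← Matrix.transpose_mul, ← Units.val_mul, inv_mul_cancel, Units.val_one, Matrix.transpose_one,
        hl_one])
  map_one' := by
    apply LinearEquiv.ext
    intro v
    show hl _ _ v = v
    rw [inv_one, Units.val_one, Matrix.transpose_one, hl_one]
    rfl
  map_mul' c d := by
    apply LinearEquiv.ext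
    intro v
    show hl _ _ v = hl _ _ (hl _ _ v)
    rw [← Module.End.mul_apply, hl_mul, _root_.mul_inv_rev, Units.val_mul, Units.val_mul, Matrix.transpose_mul]

theorem lev_apply (c : GL (Fin m) F) (v : Unit ⊕ (Fin m ⊕ Fin m) → F) :
    lev c v = hl (c : Matrix (Fin m) (Fin m) F) ((c⁻¹ : GL (Fin m) F) : Matrix _ _ F)ᵀ v := rfl

theorem lev_iso (c : GL (Fin m) F) : lev c ∈ H957.isoQ (oddForm m F) := by
  intro v
  rw [coe_oddForm]
  show quadFormOdd m F (lev c v) = quadFormOdd m F v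
  have h1 : ∀ w : Unit ⊕ (Fin m ⊕ Fin m) → F, quadFormOdd m F w =
      w (.inl ()) ^ 2 + (fun i => w (.inr (.inl i))) ⬝ᵥ (fun i => w (.inr (.inr i))) := fun w => rfl
  rw [h1, h1]
  congr 1
  show (((c : Matrix (Fin m) (Fin m) F)) *ᵥ fun i => v (.inr (.inl i))) ⬝ᵥ
    (((c⁻¹ : GL (Fin m) F) : Matrix _ _ F)ᵀ *ᵥ fun i => v (.inr (.inr i))) = _
  rw [Matrix.dotProduct_mulVec, Matrix.vecMul_transpose, Matrix.mulVec_mulVec, ← Units.val_mul, inv_mul_cancel,
    Units.val_one, Matrix.one_mulVec]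

/-- an element of `GL_m` of order `l` has no fixed vectors, `l` a primitive prime divisor of `q ^ m - 1` -/
theorem no_fix_gl [Finite F] {l : ℕ} (P : Pr (Nat.card F) l m) {c : GL (Fin m) F} (hc : c ^ l = 1) (hc1 : c ≠ 1)
    {x : Fin m → F} (hx : (c : Matrix (Fin m) (Fin m) F) *ᵥ x = x) : x = 0 := by
  have h1 : (H957.eOf c) ^ l = 1 := by
    apply LinearEquiv.ext
    intro v
    have : ∀ n : ℕ, ((H957.eOf c) ^ n) v = ((c ^ n : GL (Fin m) F) : Matrix (Fin m) (Fin m) F) *ᵥ v := by
      intro n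
      induction n with
      | zero => simp
      | succ n ih =>
        rw [pow_succ', LinearEquiv.mul_apply, ih, H957.eOf_apply, Matrix.mulVec_mulVec, ← Units.val_mul, ← pow_succ']
    rw [this, hc]
    simp
  have h2 : H957.eOf c ≠ 1 := by
    intro h
    apply hc1
    rw [← H957.glOf_eOf c, h, H957.glOf_one]
  have hm := P.pos
  have hd : finrank F (Fin m → F) = m := by simp
  have h3 := finrank_mv_eq P h1 h2 (by omega)
  have h4 := finrank_mv (H957.eOf c)
  have h5 : fx (H957.eOf c) = ⊥ := Submodule.finrank_eq_zero.1 (by omega)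
  have h6 : x ∈ fx (H957.eOf c) := mem_fx.2 hx
  rw [h5] at h6
  exact h6

/-- no isometry of primitive prime order for `q ^ (2 m) - 1` fixes the first basis vector -/
theorem no_pr_fix [Fintype F] (h2 : (2 : F) ≠ 0) (hm : 2 ≤ m)
    {x : (Unit ⊕ (Fin m ⊕ Fin m) → F) ≃ₗ[F] (Unit ⊕ (Fin m ⊕ Fin m) → F)} (hx : x ∈ H957.isoQ (oddForm m F))
    (hxw : x (Pi.single (.inl ()) 1) = Pi.single (.inl ()) 1) {l : ℕ} (P : Pr (Nat.card F) l (2 * m))
    (hxl : x ^ l = 1) : x = 1 := by
  classical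
  by_contra hx1
  have hd : finrank F (Unit ⊕ (Fin m ⊕ Fin m) → F) = 2 * m + 1 := by simp; ring
  have h3 := finrank_mv_eq P hxl hx1 (by omega)
  have h4 := finrank_mv x
  have hfx : finrank F (fx x) = 1 := by omega
  set w : Unit ⊕ (Fin m ⊕ Fin m) → F := Pi.single (.inl ()) 1 with hw
  have hw0 : (⟨w, mem_fx.2 hxw⟩ : fx x) ≠ 0 := by
    intro h
    have h5 : w (.inl ()) = 0 := congrFun (congrArg Subtype.val h) (.inl ())
    rw [hw, Pi.single_eq_same] at h5
    exact one_ne_zero h5
  have hspan := (finrank_eq_one_iff_of_nonzero' (⟨w, mem_fx.2 hxw⟩ : fx x) hw0).1 hfx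
  have hwv : ∀ v, polar (oddForm m F) w v = 2 * v (.inl ()) := by
    intro v
    rw [polar_oddForm]
    have h0 : (fun i => w (.inr i)) = (0 : Fin m ⊕ Fin m → F) := by
      funext i
      rw [hw, Pi.single_eq_of_ne (by simp)]; rfl
    rw [h0, QuadraticMap.polar_zero_left]
    simp [hw]
  let S := {v : Unit ⊕ (Fin m ⊕ Fin m) → F // v (.inl ()) = 0 ∧ oddForm m F v = 0}
  have hxS : ∀ v : S, x v.1 (.inl ()) = 0 ∧ oddForm m F (x v.1) = 0 := by
    intro v
    refine ⟨?_, by rw [hx]; exact v.2.2⟩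
    have h5 := H957.polar_iso hx w v.1
    rw [hxw, polarBilin_apply_apply, polarBilin_apply_apply, hwv, hwv, v.2.1, mul_zero] at h5
    exact (mul_eq_zero.1 h5).resolve_left h2
  let f : S → S := fun v => ⟨x v.1, hxS v⟩
  have hfn : ∀ (n : ℕ) (v : S), (f^[n] v).1 = (x ^ n) v.1 := by
    intro n
    induction n with
    | zero => intro v; rfl
    | succ n ih =>
      intro v
      rw [Function.iterate_succ_apply, ih, pow_succ]
      rfl
  have hf : f^[l] = id := by
    funext v
    apply Subtype.ext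
    rw [hfn, hxl]
    rfl
  have hdvd := dvd_card_sub_one P.prime f hf (⟨0, rfl, by rw [QuadraticMap.map_zero]⟩ : S)
    (Subtype.ext (map_zero x)) (by
      intro v hv
      have h5 : x v.1 = v.1 := congrArg Subtype.val hv
      obtain ⟨c, hc⟩ := hspan ⟨v.1, mem_fx.2 h5⟩
      have hc' : v.1 = c • w := (congrArg Subtype.val hc).symm
      have h6 := v.2.1
      rw [hc', Pi.smul_apply, hw, Pi.single_eq_same, smul_eq_mul, mul_one] at h6
      apply Subtype.ext
      rw [hc', h6, zero_smul])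
  -- the number of singular vectors of the hyperbolic space
  let e : S ≃ {v : Fin m ⊕ Fin m → F // quadFormPlus m F v = 0} :=
    { toFun := fun v => ⟨fun i => v.1 (.inr i), by
        have h5 : quadFormOdd m F v.1 = 0 := by rw [← coe_oddForm]; exact v.2.2
        have h6 : quadFormOdd m F v.1 = v.1 (.inl ()) ^ 2 + quadFormPlus m F (fun i => v.1 (.inr i)) := rfl
        rw [h6, v.2.1] at h5
        simpa using h5⟩
      invFun := fun v => ⟨Sum.elim (fun _ => 0) v.1, rfl, by
        rw [coe_oddForm]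
        have h6 : quadFormOdd m F (Sum.elim (fun _ => 0) v.1 : Unit ⊕ (Fin m ⊕ Fin m) → F) =
          0 ^ 2 + quadFormPlus m F v.1 := rfl
        rw [h6, v.2]; simp⟩
      left_inv := fun v => by
        apply Subtype.ext
        funext i
        rcases i with i | i
        · exact v.2.1.symm
        · rfl
      right_inv := fun v => rfl }
  rw [Nat.card_congr e, Cfsg.Agent.S0289.result (q := Nat.card F) (Nat.card_eq_fintype_card).symm m (by omega)] at hdvd
  set q := Nat.card F with hq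
  have hq1 : 1 < q := Finite.one_lt_card
  obtain ⟨n, rfl⟩ : ∃ n, m = n + 1 := ⟨m - 1, by omega⟩
  have hid : q ^ (2 * (n + 1) - 1) + q ^ (n + 1) - q ^ (n + 1 - 1) - 1 = (q ^ (n + 1) - 1) * (q ^ n + 1) := by
    have h5 : 1 ≤ q ^ (n + 1) := Nat.one_le_pow _ _ (by omega)
    have h6 : q ^ n ≤ q ^ (n + 1) := Nat.pow_le_pow_right (by omega) (by omega)
    have h7 : q ^ (2 * (n + 1) - 1) = q ^ (n + 1) * q ^ n := by rw [← pow_add]; congr 1; omega
    rw [h7, Nat.add_sub_cancel]
    zify [h5, show q ^ n ≤ q ^ (n + 1) * q ^ n + q ^ (n + 1) from h6.trans (Nat.le_add_left _ _),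
      show 1 ≤ q ^ (n + 1) * q ^ n + q ^ (n + 1) - q ^ n by
        have h8 : q ^ n ≤ q ^ (n + 1) * q ^ n := Nat.le_mul_of_pos_left _ (by omega)
        omega]
    ring
  rw [hid] at hdvd
  rcases P.prime.dvd_mul.1 hdvd with h5 | h5
  · have h6 := Nat.le_of_dvd (by omega) ((P.dvd_iff _).1 h5)
    omega
  · have h6 : l ∣ q ^ (2 * n) - 1 := by
      have h7 : q ^ (2 * n) - 1 = (q ^ n + 1) * (q ^ n - 1) := by
        have h8 : 1 ≤ q ^ n := Nat.one_le_pow _ _ (by omega)
        have h9 : 1 ≤ q ^ (2 * n) := Nat.one_le_pow _ _ (by omega)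
        zify [h8, h9]
        ring
      rw [h7]
      exact h5.mul_right _
    have h7 := Nat.le_of_dvd (by omega) ((P.dvd_iff _).1 h6)
    omega

/-- **class `C`** -/
theorem exists_C [Fintype F] (hodd : Odd (Fintype.card F)) (hm : 5 ≤ m) :
    ∃ c : (Unit ⊕ (Fin m ⊕ Fin m) → F) ≃ₗ[F] (Unit ⊕ (Fin m ⊕ Fin m) → F), TC (oddForm m F) (Nat.card F) m c ∧
      ∃ l, Pr (Nat.card F) l m ∧ c ^ l = 1 ∧ c ≠ 1 := by
  have hcard : Nat.card F = Fintype.card F := Nat.card_eq_fintype_card
  have hq2 : 2 ≤ Nat.card F := Finite.one_lt_card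
  have h2 : (2 : F) ≠ 0 := by
    intro h
    have h1 : ((2 : ℕ) : F) = 0 := by exact_mod_cast h
    obtain ⟨p, hp⟩ := CharP.exists F
    have hp' : p.Prime := CharP.char_is_prime F p
    have h3 := (CharP.cast_eq_zero_iff F p 2).1 h1
    have h4 : p = 2 := (Nat.prime_dvd_prime_iff_eq hp' Nat.prime_two).1 h3
    subst h4
    have h5 : 2 ∣ Fintype.card F := by
      obtain ⟨n, -, hn⟩ := FiniteField.card F 2
      rw [hn]
      exact dvd_pow_self 2 n.ne_zero
    exact (Nat.not_even_iff_odd.2 hodd) (even_iff_two_dvd.2 h5)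
  have hqodd : Odd (Nat.card F) := by rw [hcard]; exact hodd
  obtain ⟨l, hl, hiff, -, -⟩ := Lib.Zsigmondy.exists_primitive (a := Nat.card F) (n := m) hq2 (by omega)
    (fun h => absurd h (by omega)) (by
      rintro ⟨h, -⟩
      rw [h] at hqodd
      exact absurd hqodd (by decide))
  have P : Pr (Nat.card F) l m := ⟨hl, by omega, hiff⟩
  have : Fact l.Prime := ⟨hl⟩
  have hdvd : l ∣ Nat.card (GL (Fin m) F) := by
    rw [Matrix.card_GL_field]
    have h5 : l ∣ Fintype.card F ^ m - Fintype.card F ^ ((⟨0, by omega⟩ : Fin m) : ℕ) := by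
      rw [← hcard]
      show l ∣ Nat.card F ^ m - Nat.card F ^ 0
      rw [pow_zero]
      exact P.dvd
    exact h5.trans (Finset.dvd_prod_of_mem _ (Finset.mem_univ _))
  obtain ⟨c, hc⟩ := exists_prime_orderOf_dvd_card' l hdvd
  have hcl : c ^ l = 1 := by rw [← hc]; exact pow_orderOf_eq_one c
  have hc1 : c ≠ 1 := by
    rintro rfl
    rw [orderOf_one] at hc
    exact hl.one_lt.ne hc
  set w : Unit ⊕ (Fin m ⊕ Fin m) → F := Pi.single (.inl ()) 1 with hw
  have hfixw : ∀ v, lev c v = v → v = v (.inl ()) • w := by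
    intro v hv
    have h5 : (fun i => v (.inr (.inl i))) = (0 : Fin m → F) := by
      apply no_fix_gl P hcl hc1
      funext i
      exact congrFun hv (.inr (.inl i))
    have h6 : (fun i => v (.inr (.inr i))) = (0 : Fin m → F) := by
      -- `(c⁻¹)ᵀ` has order `l`
      let ct : GL (Fin m) F := ⟨((c⁻¹ : GL (Fin m) F) : Matrix _ _ F)ᵀ, (c : Matrix _ _ F)ᵀ,
        by rw [← Matrix.transpose_mul, ← Units.val_mul, mul_inv_cancel, Units.val_one, Matrix.transpose_one],
        by rw [← Matrix.transpose_mul, ← Units.val_mul, inv_mul_cancel, Units.val_one, Matrix.transpose_one]⟩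
      have hct : ct ^ l = 1 := by
        apply Units.ext
        show (((c⁻¹ : GL (Fin m) F) : Matrix (Fin m) (Fin m) F)ᵀ) ^ l = 1
        rw [← Matrix.transpose_pow, ← Units.val_pow_eq_pow_val, inv_pow, hcl, inv_one, Units.val_one,
          Matrix.transpose_one]
      have hct1 : ct ≠ 1 := by
        intro h
        apply hc1
        have h7 : ((c⁻¹ : GL (Fin m) F) : Matrix (Fin m) (Fin m) F)ᵀ = 1 := congrArg Units.val h
        have h8 : ((c⁻¹ : GL (Fin m) F) : Matrix (Fin m) (Fin m) F) = 1 := by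
          rw [← Matrix.transpose_transpose ((c⁻¹ : GL (Fin m) F) : Matrix (Fin m) (Fin m) F), h7,
            Matrix.transpose_one]
        exact inv_eq_one.1 (Units.ext h8)
      apply no_fix_gl P hct hct1
      funext i
      exact congrFun hv (.inr (.inr i))
    funext i
    rcases i with i | i | i
    · rw [Pi.smul_apply, hw, show (Sum.inl i : Unit ⊕ (Fin m ⊕ Fin m)) = .inl () from rfl, Pi.single_eq_same,
        smul_eq_mul, mul_one]
    · rw [Pi.smul_apply, hw, Pi.single_eq_of_ne (by simp), smul_zero]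
      exact congrFun h5 i
    · rw [Pi.smul_apply, hw, Pi.single_eq_of_ne (by simp), smul_zero]
      exact congrFun h6 i
  have hfw : lev c w = w := by
    funext i
    rcases i with i | i | i
    · rfl
    · show ((c : Matrix (Fin m) (Fin m) F) *ᵥ fun i => w (.inr (.inl i))) i = w (.inr (.inl i))
      have h7 : (fun i => w (.inr (.inl i))) = (0 : Fin m → F) := by
        funext i
        rw [hw, Pi.single_eq_of_ne (by simp)]; rfl
      rw [h7, Matrix.mulVec_zero]
      exact (congrFun h7 i).symm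
    · show ((((c⁻¹ : GL (Fin m) F) : Matrix _ _ F)ᵀ) *ᵥ fun i => w (.inr (.inr i))) i = w (.inr (.inr i))
      have h7 : (fun i => w (.inr (.inr i))) = (0 : Fin m → F) := by
        funext i
        rw [hw, Pi.single_eq_of_ne (by simp)]; rfl
      rw [h7, Matrix.mulVec_zero]
      exact (congrFun h7 i).symm
  have hQw : oddForm m F w = 1 := by
    rw [coe_oddForm]
    simp [quadFormOdd, hw]
  refine ⟨lev c, ⟨lev_iso c, ⟨l, P, by rw [← map_pow, hcl, map_one]⟩, w, by rw [hQw]; exact one_ne_zero, hfw,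
    fun v hv => ⟨_, hfixw v hv⟩, fun x hx hxw l' P' hxl => no_pr_fix h2 (by omega) hx hxw P' hxl⟩, l, P,
    by rw [← map_pow, hcl, map_one], ?_⟩
  intro h
  apply hc1
  apply Units.ext
  ext i j
  have h8 : lev c (Pi.single (.inr (.inl j)) 1) = Pi.single (.inr (.inl j)) 1 := by rw [h]; rfl
  have h9 := congrFun h8 (.inr (.inl i))
  have h10 : (fun k => (Pi.single (.inr (.inl j)) 1 : Unit ⊕ (Fin m ⊕ Fin m) → F) (.inr (.inl k))) =
      (Pi.single j 1 : Fin m → F) := by
    funext k
    by_cases hk : k = j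
    · subst hk; simp
    · rw [Pi.single_eq_of_ne hk, Pi.single_eq_of_ne (by simpa using hk)]
  rw [lev_apply, hl_rl, h10, Matrix.mulVec_single_one] at h9
  rw [Units.val_one, Matrix.one_apply]
  rw [Matrix.col_apply] at h9
  rw [h9]
  by_cases hij : i = j
  · subst hij; simp
  · rw [if_neg hij, Pi.single_eq_of_ne (by simpa using hij)]

end coord

end Cfsg.Agent.H25.Cov
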