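import Cfsg.Agent.H25.Cov.OoddB
import Cfsg.Agent.H884.OddForm

/-!
# S2499, `Ω_{2m+1}(q)`, `q` odd, `m ≥ 5`: the row (helper25)
-/

set_option autoImplicit false

namespace Cfsg.Agent.H25.Cov

open Module QuadraticMap Cfsg Cfsg.Geo Cfsg.Agent.H278.Cov Matrix
open LieClassical.QuadForms (oddForm oddForm_apply coe_oddForm polar_oddForm)
open scoped MatrixGroups

set_option linter.unusedSectionVars false

universe u

/-- NUM of the stubs -/
def ExistsNum : Prop :=
  ∀ {q n k : ℕ} (_ : IsPrimePow q) (_ : 10 ≤ n) (_ : k ≤ n) (_ : n < 2 * k)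
    (_ : q = 2 → k ≠ 6 ∧ k ≠ 8 ∧ k ≠ 10 ∧ k ≠ 12 ∧ k ≠ 18 ∧ k ≠ 20)
    (_ : k = 6 → q ≠ 3 ∧ q ≠ 4 ∧ q ≠ 5), ∃ m, Num q n k m

theorem two_ne_zero_of_odd {F : Type*} [Field F] [Finite F] (hodd : Odd (Nat.card F)) : (2 : F) ≠ 0 := by
  intro h
  have h1 : 2 • (1 : F) = 0 := by rw [nsmul_eq_mul, mul_one]; exact_mod_cast h
  have h2 : addOrderOf (1 : F) ∣ 2 := addOrderOf_dvd_of_nsmul_eq_zero h1
  rcases (Nat.dvd_prime Nat.prime_two).1 h2 with h3 | h3
  · rw [AddMonoid.addOrderOf_eq_one_iff] at h3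
    exact absurd h3 one_ne_zero
  · have h4 : 2 ∣ Nat.card F := by rw [← h3]; exact addOrderOf_dvd_natCard _
    exact (Nat.not_even_iff_odd.2 hodd) (even_iff_two_dvd.2 h4)

/-- from `Num` with `k = 2 j`: a primitive prime divisor, and `M ∣ q ^ j + 1` -/
theorem pr_of_num {q n j M : ℕ} (hq : 2 ≤ q) (hj : 1 ≤ j) (h : Num q n (2 * j) M) :
    (∃ l, Pr q l (2 * j) ∧ l ∣ M) ∧ M ∣ q ^ j + 1 ∧ (Odd q → Odd M) := by
  refine ⟨?_, ?_, ?_⟩
  · obtain ⟨l, hl, hlM, -⟩ := h.sub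
    refine ⟨l, Pr.of hl (by omega) (hlM.trans h.dvd) ?_, hlM⟩
    intro i hi hid hcon
    have h1 := Nat.dvd_gcd hlM hcon
    rw [(h.prim i hi hid : Nat.gcd M (q ^ i - 1) = 1)] at h1
    exact hl.one_lt.ne' (Nat.dvd_one.1 h1)
  · have h1 : q ^ (2 * j) - 1 = (q ^ j - 1) * (q ^ j + 1) := by
      have h8 : 1 ≤ q ^ j := Nat.one_le_pow _ _ (by omega)
      have h9 : 1 ≤ q ^ (2 * j) := Nat.one_le_pow _ _ (by omega)
      zify [h8, h9]
      ring
    have h2 := h.dvd
    rw [h1] at h2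
    exact (h.prim j hj (by omega)).dvd_of_dvd_mul_left h2
  · intro hodd
    rw [← Nat.not_even_iff_odd]
    intro hev
    have h1 : 2 ∣ q ^ 1 - 1 := by
      obtain ⟨r, hr⟩ := hodd
      rw [pow_one]
      exact ⟨r, by omega⟩
    have h2 := Nat.dvd_gcd (even_iff_two_dvd.1 hev) h1
    rw [(h.prim 1 le_rfl (by omega) : Nat.gcd M (q ^ 1 - 1) = 1)] at h2
    omega

section exist

variable {F : Type u} [Field F] [Fintype F] {m : ℕ}

/-- an isometry of prime order -/
theorem exists_iso (hodd : Odd (Nat.card F)) {j : ℕ} (hj : 1 ≤ j) (hjm : j ≤ m) {l : ℕ}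
    (P : Pr (Nat.card F) l (2 * j)) :
    ∃ x ∈ H957.isoQ (oddForm m F), x ^ l = 1 ∧ x ≠ 1 := by
  have hcard : Fintype.card F = Nat.card F := (Nat.card_eq_fintype_card).symm
  have : Fact l.Prime := ⟨P.prime⟩
  have hdvd : l ∣ Nat.card (Cfsg.isometryGroup F (Cfsg.quadFormOdd m F)) := by
    rw [S0286.result hcard hodd m]
    apply Dvd.dvd.mul_left
    have h1 : l ∣ Nat.card F ^ (2 * ((j - 1) + 1)) - 1 := by
      rw [Nat.sub_add_cancel hj]; exact P.dvd
    exact h1.trans (Finset.dvd_prod_of_mem (fun i => Nat.card F ^ (2 * (i + 1)) - 1)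
      (Finset.mem_range.2 (by omega : j - 1 < m)))
  obtain ⟨g, hg⟩ := exists_prime_orderOf_dvd_card' l hdvd
  have hgQ : (g : GL _ F) ∈ Cfsg.isometryGroup F (⇑(oddForm m F)) := by
    rw [coe_oddForm]; exact g.2
  have hgl : (g : GL (Unit ⊕ (Fin m ⊕ Fin m)) F) ^ l = 1 := by
    have h1 : g ^ l = 1 := by rw [← hg]; exact pow_orderOf_eq_one g
    exact congrArg Subtype.val h1
  refine ⟨H957.eOf g, H957.eOf_mem hgQ, ?_, ?_⟩
  · rw [← H957.eOf_glOf (H957.eOf (g : GL (Unit ⊕ (Fin m ⊕ Fin m)) F) ^ l), H957.glOf_pow, H957.glOf_eOf, hgl,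
      ← H957.glOf_one, H957.eOf_glOf]
  · intro h
    have h1 : g = 1 := by
      apply Subtype.ext
      show (g : GL (Unit ⊕ (Fin m ⊕ Fin m)) F) = 1
      rw [← H957.glOf_eOf (g : GL (Unit ⊕ (Fin m ⊕ Fin m)) F), h, H957.glOf_one]
    rw [h1, orderOf_one] at hg
    exact P.prime.one_lt.ne hg

theorem finrank_odd : finrank F (Unit ⊕ (Fin m ⊕ Fin m) → F) = 2 * m + 1 := by simp; ring

/-- **class `A`** -/
theorem exists_A (hnum : ExistsNum) (hodd : Odd (Nat.card F)) (hm : 5 ≤ m) :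
    ∃ a, TA (oddForm m F) (Nat.card F) m a ∧ Odd (orderOf a) := by
  have hq2 : 2 ≤ Nat.card F := Finite.one_lt_card
  have hpp : IsPrimePow (Nat.card F) := by
    rw [Nat.card_eq_fintype_card]; exact FiniteField.isPrimePow_card F
  have hqne : Nat.card F ≠ 2 := by
    intro h; rw [h] at hodd; exact absurd hodd (by decide)
  obtain ⟨M, hM⟩ := hnum (q := Nat.card F) (n := 2 * m + 1) (k := 2 * m) hpp (by omega) (by omega) (by omega)
    (fun h => absurd h hqne) (by omega)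
  obtain ⟨⟨l, P, hlM⟩, hM1, hMo⟩ := pr_of_num hq2 (by omega) hM
  obtain ⟨x, hxQ, hxl, hx1⟩ := exists_iso hodd (by omega) le_rfl P
  have h2 := two_ne_zero_of_odd hodd
  have hQ := S0292.oddForm_nondegenerate h2 m
  have hd : finrank F (Unit ⊕ (Fin m ⊕ Fin m) → F) = 2 * m + 1 := finrank_odd
  obtain ⟨a, haQ, hao, hxa, -⟩ := exists_torus_quad (sep_right hQ) P hxQ hxl
    (finrank_mv_eq P hxl hx1 (by omega)) hM1 hlM
  exact ⟨a, ⟨haQ, by rw [hao]; exact hM, l, x, P, hxa, hxl, hx1⟩, by rw [hao]; exact hMo hodd⟩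

/-- **class `B`** -/
theorem exists_B (hnum : ExistsNum) (hodd : Odd (Nat.card F)) (hm : 5 ≤ m) :
    ∃ b, TB (oddForm m F) (Nat.card F) m b ∧ ∃ n, Odd n ∧ b ^ n = 1 := by
  have hq2 : 2 ≤ Nat.card F := Finite.one_lt_card
  have hpp : IsPrimePow (Nat.card F) := by
    rw [Nat.card_eq_fintype_card]; exact FiniteField.isPrimePow_card F
  have hqne : Nat.card F ≠ 2 := by
    intro h; rw [h] at hodd; exact absurd hodd (by decide)
  obtain ⟨j, rfl⟩ : ∃ j, m = j + 1 := ⟨m - 1, by omega⟩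
  obtain ⟨M, hM⟩ := hnum (q := Nat.card F) (n := 2 * (j + 1) + 1) (k := 2 * j) hpp (by omega) (by omega) (by omega)
    (fun h => absurd h hqne) (by omega)
  obtain ⟨⟨l, P, hlM⟩, hM1, hMo⟩ := pr_of_num hq2 (by omega) hM
  obtain ⟨x, hxQ, hxl, hx1⟩ := exists_iso (m := j + 1) hodd (by omega) (by omega) P
  have h2 := two_ne_zero_of_odd hodd
  have hQ := sep_right (S0292.oddForm_nondegenerate h2 (j + 1))
  have hd : finrank F (Unit ⊕ (Fin (j + 1) ⊕ Fin (j + 1)) → F) = 2 * (j + 1) + 1 := finrank_odd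
  have hmv := finrank_mv_eq P hxl hx1 (by omega)
  obtain ⟨g, hgQ, hgo, hxg, hgfx⟩ := exists_torus_quad hQ P hxQ hxl hmv hM1 hlM
  obtain ⟨p, hp⟩ := CharP.exists F
  have hpp' : p.Prime := CharP.char_is_prime F p
  have h3 : finrank F (fx x) = 3 := by
    have := finrank_mv x
    omega
  obtain ⟨u, huQ, hup, humv, hufx, husing⟩ := exists_unip h2 hQ p hxQ P.cast_ne_zero hxl h3
  -- `p` is odd and prime to `M`
  have hpq : p ∣ Nat.card F := by
    have h4 : p • (1 : F) = 0 := by rw [nsmul_eq_mul, mul_one, CharP.cast_eq_zero]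
    have h5 : addOrderOf (1 : F) ∣ p := addOrderOf_dvd_of_nsmul_eq_zero h4
    rcases (Nat.dvd_prime hpp').1 h5 with h6 | h6
    · rw [AddMonoid.addOrderOf_eq_one_iff] at h6
      exact absurd h6 one_ne_zero
    · rw [← h6]; exact addOrderOf_dvd_natCard _
  have hpodd : Odd p := by
    rw [← Nat.not_even_iff_odd]
    intro hev
    exact (Nat.not_even_iff_odd.2 hodd) (even_iff_two_dvd.2 ((even_iff_two_dvd.1 hev).trans hpq))
  have hcop : M.Coprime p := by
    rw [Nat.coprime_comm, Nat.Prime.coprime_iff_not_dvd hpp']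
    intro hpM
    have h4 : p ∣ Nat.card F ^ j + 1 := hpM.trans hM1
    have h5 : p ∣ Nat.card F ^ j := hpq.trans (dvd_pow_self _ (by omega))
    have h6 := (Nat.dvd_add_right h5).1 h4
    exact hpp'.one_lt.ne' (Nat.dvd_one.1 h6)
  -- `g` and `u` commute
  have hgx : g * x = x * g := by
    obtain ⟨n, hn⟩ := Subgroup.mem_zpowers_iff.1 hxg
    rw [← hn]; exact ((Commute.refl g).zpow_right n).eq
  have hgmv : ∀ v ∈ mv x, g v ∈ mv x := by
    intro v hv
    obtain ⟨w, rfl⟩ := mem_mv.1 hv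
    refine mem_mv.2 ⟨g w, ?_⟩
    have h4 : g (x w) = x (g w) := by
      have := congrArg (fun e : (Unit ⊕ (Fin (j + 1) ⊕ Fin (j + 1)) → F) ≃ₗ[F] _ => e w) hgx
      exact this
    rw [map_sub, h4]
  have hcomm : Commute g u := by
    apply LinearEquiv.ext
    intro v
    obtain ⟨a, ha, b, hb, rfl⟩ := sup_decomp P.cast_ne_zero hxl v
    show g (u (a + b)) = u (g (a + b))
    rw [map_add, map_add, map_add, map_add, humv b hb, hgfx a ha, hgfx _ (hufx a ha), humv _ (hgmv b hb)]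
  have hgM : g ^ M = 1 := by rw [← hgo]; exact pow_orderOf_eq_one g
  obtain ⟨hgb, -⟩ := H994.TwoGen.mem_zpowers_mul hcomm hgM hup hcop
  refine ⟨g * u, ⟨mul_mem hgQ huQ, l, x, g, hgb, ?_, ?_, hxg, hxl, hx1, ?_⟩, M * p, ?_, ?_⟩
  · rw [hgo]
    rwa [show 2 * (j + 1) - 2 = 2 * j by omega]
  · rwa [show 2 * (j + 1) - 2 = 2 * j by omega]
  · intro v hv c hc
    have h4 : u v = c • v := by
      have h5 : g (u v) = u v := hgfx _ (hufx v hv)
      rw [← h5]; exact hc
    by_cases hv0 : v = 0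
    · rw [hv0, QuadraticMap.map_zero]
    have h5 : ∀ n : ℕ, (u ^ n) v = (c ^ n) • v := by
      intro n
      induction n with
      | zero => simp
      | succ n ih => rw [pow_succ', LinearEquiv.mul_apply, ih, map_smul, h4, smul_smul, pow_succ]
    have h6 : c ^ p = 1 := by
      have h7 := h5 p
      rw [hup] at h7
      have h8 : (1 : F) • v = c ^ p • v := by rw [one_smul]; exact h7
      exact (smul_left_injective F hv0 h8).symm
    have h7 : c = 1 := by
      have : Fact p.Prime := ⟨hpp'⟩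
      have h8 : (c - 1) ^ p = 0 := by rw [sub_pow_char, h6, one_pow, sub_self]
      exact sub_eq_zero.1 (pow_eq_zero_iff hpp'.ne_zero |>.1 h8)
    exact husing v hv (by rw [h4, h7, one_smul])
  · exact (hMo hodd).mul hpodd
  · rw [hcomm.mul_pow, pow_mul, hgM, one_pow, mul_comm M p, pow_mul, hup, one_pow, one_mul]

end exist

section row

variable {F : Type u} [Field F] [Fintype F] {m : ℕ}

/-- an element of odd order as an element of `Ω` -/
noncomputable def om (h2 : (2 : F) ≠ 0) {n : ℕ} (hn : Odd n)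
    (g : (Unit ⊕ (Fin m ⊕ Fin m) → F) ≃ₗ[F] (Unit ⊕ (Fin m ⊕ Fin m) → F))
    (hg : g ∈ H957.isoQ (oddForm m F)) (hgn : g ^ n = 1) (hF : Nat.card F ≠ 2) :
    Omega F (quadFormOdd m F) :=
  have h1 : H957.glOf g ∈ isometryGroup F (quadFormOdd m F) := by
    rw [← coe_oddForm]; exact H957.glOf_mem hg
  ⟨⟨H957.glOf g, h1⟩, by
    have h3 := H957.mem_Omega_of_odd (oddForm m F) (S0292.oddForm_nondegenerate h2 m) (Or.inl hF) hn
      ⟨H957.glOf g, H957.glOf_mem hg⟩ (by
        apply Subtype.ext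
        show H957.glOf g ^ n = 1
        rw [← H957.glOf_pow, hgn, H957.glOf_one])
    have key : ∀ (Q' : (Unit ⊕ (Fin m ⊕ Fin m) → F) → F) (hQ' : ⇑(oddForm m F) = Q')
        (h : H957.glOf g ∈ isometryGroup F Q'), (⟨H957.glOf g, h⟩ : isometryGroup F Q') ∈ Omega F Q' := by
      rintro _ rfl _
      exact h3
    exact key _ (coe_oddForm m) h1⟩

theorem om_coe (h2 : (2 : F) ≠ 0) {n : ℕ} (hn : Odd n)
    (g : (Unit ⊕ (Fin m ⊕ Fin m) → F) ≃ₗ[F] (Unit ⊕ (Fin m ⊕ Fin m) → F))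
    (hg : g ∈ H957.isoQ (oddForm m F)) (hgn : g ^ n = 1) (hF : Nat.card F ≠ 2) :
    ((om h2 hn g hg hgn hF : isometryGroup F (quadFormOdd m F)) : GL _ F) = H957.glOf g := rfl

/-- inclusion of `Ω` into `GL` -/
def inc (m : ℕ) (F : Type u) [Field F] : Omega F (quadFormOdd m F) →* GL (Unit ⊕ (Fin m ⊕ Fin m)) F :=
  (isometryGroup F (quadFormOdd m F)).subtype.comp (Omega F (quadFormOdd m F)).subtype

theorem inc_injective : Function.Injective (inc m F) := fun _ _ h => Subtype.ext (Subtype.ext h)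

theorem map_le (H : Subgroup (Omega F (quadFormOdd m F))) : H.map (inc m F) ≤ omegaGL (quadFormOdd m F) := by
  rintro _ ⟨x, -, rfl⟩
  exact ⟨x.1, x.2, rfl⟩

theorem map_ne {H : Subgroup (Omega F (quadFormOdd m F))} (hH : H ≠ ⊤) :
    H.map (inc m F) ≠ omegaGL (quadFormOdd m F) := by
  intro h
  apply hH
  rw [eq_top_iff]
  intro x _
  have h1 : inc m F x ∈ omegaGL (quadFormOdd m F) := ⟨x.1, x.2, rfl⟩
  rw [← h] at h1
  obtain ⟨y, hy, hxy⟩ := h1
  rwa [← inc_injective hxy]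

/-- elements of `H` act on the space -/
noncomputable def act (x : Omega F (quadFormOdd m F)) :
    (Unit ⊕ (Fin m ⊕ Fin m) → F) ≃ₗ[F] (Unit ⊕ (Fin m ⊕ Fin m) → F) := H957.eOf (inc m F x)

theorem act_mul (x y : Omega F (quadFormOdd m F)) : act (x * y) = act x * act y := by
  unfold act
  rw [map_mul]
  apply LinearEquiv.ext
  intro v
  rw [LinearEquiv.mul_apply, H957.eOf_apply, H957.eOf_apply, H957.eOf_apply, Matrix.mulVec_mulVec, Units.val_mul]

theorem act_iso (x : Omega F (quadFormOdd m F)) : act x ∈ H957.isoQ (oddForm m F) := by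
  apply H957.eOf_mem
  rw [coe_oddForm]
  exact x.1.2

theorem act_inv (x : Omega F (quadFormOdd m F)) : act x⁻¹ = (act x)⁻¹ := by
  rw [eq_inv_iff_mul_eq_one, ← act_mul, inv_mul_cancel]
  unfold act
  rw [map_one, ← H957.glOf_one, H957.eOf_glOf]

theorem act_conj (g x : Omega F (quadFormOdd m F)) : act (g * x * g⁻¹) = act g * act x * (act g)⁻¹ := by
  rw [act_mul, act_mul, act_inv]

theorem act_om (h2 : (2 : F) ≠ 0) {n : ℕ} (hn : Odd n)
    (g : (Unit ⊕ (Fin m ⊕ Fin m) → F) ≃ₗ[F] (Unit ⊕ (Fin m ⊕ Fin m) → F))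
    (hg : g ∈ H957.isoQ (oddForm m F)) (hgn : g ^ n = 1) (hF : Nat.card F ≠ 2) :
    act (om h2 hn g hg hgn hF) = g := by
  show H957.eOf (H957.glOf g) = g
  rw [H957.eOf_glOf]

/-- a stable subspace is stable under the action -/
theorem stab_act {H : Subgroup (Omega F (quadFormOdd m F))} {X : Submodule F (Unit ⊕ (Fin m ⊕ Fin m) → F)}
    (hX : H.map (inc m F) ≤ subspaceStabilizer X) {x : Omega F (quadFormOdd m F)} (hx : x ∈ H) :
    ∀ v ∈ X, act x v ∈ X := by
  intro v hv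
  exact ((hX ⟨x, hx, rfl⟩ : inc m F x ∈ subspaceStabilizer X) v).1 hv

theorem inc_eq (x : Omega F (quadFormOdd m F)) : inc m F x = H957.glOf (act x) := by
  unfold act
  rw [H957.glOf_eOf]

theorem orderOf_inc (x : Omega F (quadFormOdd m F)) : orderOf (inc m F x) = orderOf (act x) := by
  rw [inc_eq]
  have hinj : Function.Injective (H957.glHom (Unit ⊕ (Fin m ⊕ Fin m)) F) := by
    intro a b hab
    have h1 : H957.glOf a = H957.glOf b := hab
    rw [← H957.eOf_glOf a, h1, H957.eOf_glOf]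
  exact orderOf_injective _ hinj (act x)

theorem card_idx : Fintype.card (Unit ⊕ (Fin m ⊕ Fin m)) = 2 * m + 1 := by
  simp; ring

theorem red_or_ext (hog : OgO.{u}) (hodd : Odd (Fintype.card F)) {H : Subgroup (Omega F (quadFormOdd m F))} (hH : H ≠ ⊤)
    {g : GL (Unit ⊕ (Fin m ⊕ Fin m)) F} (hg : g ∈ H.map (inc m F)) {k : ℕ}
    (hnum : Num (Nat.card F) (2 * m + 1) k (orderOf g)) :
    (∃ X : Submodule F (Unit ⊕ (Fin m ⊕ Fin m) → F), X ≠ ⊥ ∧ X ≠ ⊤ ∧ ∀ y ∈ H, ∀ v ∈ X, act y v ∈ X) ∨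
      Ext (Nat.gcd (2 * m + 1) k) (H.map (inc m F)) := by
  have h1 := hog (H884.OddForm.isNondegenerate_quadFormOdd hodd m) (map_le H) (map_ne hH) hg (k := k) (by
    rw [card_idx, ← Nat.card_eq_fintype_card]; exact hnum)
  rcases h1 with ⟨X, h3, h4, h5⟩ | h1
  · exact Or.inl ⟨X, h3, h4, fun y hy => stab_act h5 hy⟩
  · right
    rwa [card_idx] at h1

/-- no proper subgroup contains elements of class `A` and of class `B` or `C` -/
theorem incA (hog : OgO.{u}) (hodd : Odd (Nat.card F)) (hm : 5 ≤ m)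
    {H : Subgroup (Omega F (quadFormOdd m F))} (hH : H ≠ ⊤) {x y : Omega F (quadFormOdd m F)} (hx : x ∈ H)
    (hy : y ∈ H) (hA : TA (oddForm m F) (Nat.card F) m (act x))
    (hBC : TB (oddForm m F) (Nat.card F) m (act y) ∨ TC (oddForm m F) (Nat.card F) m (act y)) : False := by
  have h2 := two_ne_zero_of_odd hodd
  have hQ := S0292.oddForm_nondegenerate h2 m
  rcases red_or_ext hog (by rwa [← Nat.card_eq_fintype_card]) hH (g := inc m F x) ⟨x, hx, rfl⟩ (by rw [orderOf_inc]; exact hA.num) with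
    ⟨X, hX0, hX1, hX⟩ | ⟨r, E, hr, hrd, -⟩
  · obtain ⟨L, hL, haL, hyL⟩ := line_of_A hQ hm finrank_odd hA (act_iso y) hX0 hX1 (hX x hx) (hX y hy)
    rcases hBC with hB | hC
    · exact no_line_AB (sep_right hQ) h2 hm finrank_odd hA hB hL haL hyL
    · exact no_line_AC hm hA hC hL haL hyL
  · have h3 : Nat.gcd (2 * m + 1) (2 * m) = 1 := by
      rw [Nat.gcd_comm]; simp
    rw [h3] at hrd
    exact hr.one_lt.ne' (Nat.dvd_one.1 hrd)

theorem incBC (hog : OgO.{u}) (hext : ExtDvd.{u}) (hodd : Odd (Nat.card F)) (hm : 5 ≤ m)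
    {H : Subgroup (Omega F (quadFormOdd m F))} (hH : H ≠ ⊤) {x y : Omega F (quadFormOdd m F)} (hx : x ∈ H)
    (hy : y ∈ H) (hB : TB (oddForm m F) (Nat.card F) m (act x))
    (hC : TC (oddForm m F) (Nat.card F) m (act y)) : False := by
  have h2 := two_ne_zero_of_odd hodd
  have hQ := S0292.oddForm_nondegenerate h2 m
  obtain ⟨l, x', g, hgx, hnum, -⟩ := hB.pr
  obtain ⟨n, hn⟩ := Subgroup.mem_zpowers_iff.1 hgx
  have hgo : orderOf (inc m F (x ^ n)) = orderOf g := by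
    rw [orderOf_inc]
    congr 1
    rw [← hn]
    have hact : ∀ z : Omega F (quadFormOdd m F), act z = (MonoidHom.mk' act act_mul) z := fun z => rfl
    rw [hact, hact, map_zpow]
  rcases red_or_ext hog (by rwa [← Nat.card_eq_fintype_card]) hH (g := inc m F (x ^ n)) ⟨x ^ n, H.zpow_mem hx n, rfl⟩ (by rw [hgo]; exact hnum) with
    ⟨X, hX0, hX1, hX⟩ | ⟨r, E, hr, hrd, hE, hle⟩
  · obtain ⟨L, hL, haL, hyL⟩ := line_of_BC hQ hm finrank_odd hB hC hX0 hX1 (hX x hx) (hX y hy)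
    exact no_line_BC hm hB hC hL haL hyL
  · have h3 : r ∣ 3 := by
      have h4 : r ∣ 2 * m + 1 := hrd.trans (Nat.gcd_dvd_left _ _)
      have h5 : r ∣ 2 * m - 2 := hrd.trans (Nat.gcd_dvd_right _ _)
      have h6 := Nat.dvd_sub h4 h5
      rwa [show 2 * m + 1 - (2 * m - 2) = 3 by omega] at h6
    obtain rfl : r = 3 := (Nat.prime_dvd_prime_iff_eq hr Nat.prime_three).1 h3
    obtain ⟨l', P', hl'⟩ := hC.pr
    obtain ⟨w, hw, hcw, hline, -⟩ := hC.line
    have ht : inc m F y ∈ subalgebraNormalizer E := hle ⟨y, hy, rfl⟩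
    have hlt := P'.lt (Nat.card_pos (α := F))
    have hco : Nat.Coprime (orderOf (inc m F y)) 3 := by
      rw [orderOf_inc]
      apply Nat.Coprime.coprime_dvd_left (orderOf_dvd_of_pow_eq_one hl')
      rw [Nat.coprime_primes P'.prime Nat.prime_three]
      omega
    have h7 := hext Nat.prime_three hE ht hco (Polynomial.X - 1)
    have h8 : LinearMap.ker (Polynomial.aeval (Matrix.toLin' ((inc m F y : GL (Unit ⊕ (Fin m ⊕ Fin m)) F) :
        Matrix (Unit ⊕ (Fin m ⊕ Fin m)) (Unit ⊕ (Fin m ⊕ Fin m)) F))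
        (Polynomial.X - 1 : Polynomial F)) = fx (act y) := by
      rw [map_sub, Polynomial.aeval_X, map_one]
      rfl
    rw [h8] at h7
    have hw0 : (⟨w, mem_fx.2 hcw⟩ : fx (act y)) ≠ 0 := by
      intro h
      have h9 : w = 0 := congrArg Subtype.val h
      rw [h9, QuadraticMap.map_zero] at hw
      exact hw rfl
    have hfx : finrank F (fx (act y)) = 1 := by
      rw [finrank_eq_one_iff_of_nonzero' _ hw0]
      intro v
      obtain ⟨r, hr⟩ := hline v (mem_fx.1 v.2)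
      exact ⟨r, Subtype.ext hr.symm⟩
    rw [hfx] at h7
    omega

/-- **COV-OODD** -/
theorem noTwo_oodd_of (hog : OgO.{u}) (hext : ExtDvd.{u}) (hnum : ExistsNum) (hm : 5 ≤ m)
    (hodd' : Odd (Fintype.card F)) : NoTwo (POmega F (quadFormOdd m F)) := by
  have hodd : Odd (Nat.card F) := by rw [Nat.card_eq_fintype_card]; exact hodd'
  have h2 := two_ne_zero_of_odd hodd
  have hqne : Nat.card F ≠ 2 := by
    intro h; rw [h] at hodd; exact absurd hodd (by decide)
  suffices h : NoTwo (Omega F (quadFormOdd m F)) from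
    h.of_surjective (QuotientGroup.mk' _) (QuotientGroup.mk'_surjective _)
  obtain ⟨a, hA, hao⟩ := exists_A (F := F) hnum hodd hm
  obtain ⟨b, hB, nb, hnb, hbn⟩ := exists_B (F := F) hnum hodd hm
  obtain ⟨c, hC, l, P, hcl, -⟩ := exists_C (F := F) hodd' hm
  have hlodd : Odd l := P.prime.odd_of_ne_two (by
    have := P.lt (Nat.card_pos (α := F))
    omega)
  set α := om h2 hao a hA.iso (pow_orderOf_eq_one a) hqne with hα
  set β := om h2 hnb b hB.iso hbn hqne with hβ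
  set γ := om h2 hlodd c hC.iso hcl hqne with hγ
  have eα : act α = a := act_om h2 hao a hA.iso (pow_orderOf_eq_one a) hqne
  have eβ : act β = b := act_om h2 hnb b hB.iso hbn hqne
  have eγ : act γ = c := act_om h2 hlodd c hC.iso hcl hqne
  have tA : ∀ g, TA (oddForm m F) (Nat.card F) m (act (g * α * g⁻¹)) := by
    intro g
    rw [act_conj, eα]
    exact hA.conj (act_iso g)
  have tB : ∀ g, TB (oddForm m F) (Nat.card F) m (act (g * β * g⁻¹)) := by
    intro g
    rw [act_conj, eβ]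
    exact hB.conj (act_iso g)
  have tC : ∀ g, TC (oddForm m F) (Nat.card F) m (act (g * γ * g⁻¹)) := by
    intro g
    rw [act_conj, eγ]
    exact hC.conj (act_iso g)
  have iAB : Inc α β := by
    intro H hH
    by_contra hcon
    rw [not_or] at hcon
    obtain ⟨g, hg⟩ := not_av hcon.1
    obtain ⟨k, hk⟩ := not_av hcon.2
    exact incA hog hodd hm hH hg hk (tA g) (Or.inl (tB k))
  have iAC : Inc α γ := by
    intro H hH
    by_contra hcon
    rw [not_or] at hcon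
    obtain ⟨g, hg⟩ := not_av hcon.1
    obtain ⟨k, hk⟩ := not_av hcon.2
    exact incA hog hodd hm hH hg hk (tA g) (Or.inr (tC k))
  have iBC : Inc β γ := by
    intro H hH
    by_contra hcon
    rw [not_or] at hcon
    obtain ⟨g, hg⟩ := not_av hcon.1
    obtain ⟨k, hk⟩ := not_av hcon.2
    exact incBC hog hext hodd hm hH hg hk (tB g) (tC k)
  exact noTwo_of_three iAB iBC iAC

end row

end Cfsg.Agent.H25.Cov
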