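import Cfsg.Agent.H25.Cov.Blk
import Cfsg.Agent.H237.OrthStd
import Cfsg.Agent.ClassicalGeometry.SiegelGen

/-!
# A regular unipotent element on a three dimensional fixed space (S2499, helper25)

* `sg Q e f t` : Siegel transformation `v ↦ v + t (v,f) e - t (v,e) f - t² Q(f) (v,e) e`, `Q e = 0`, `(e,f) = 0`;
* `exists_unip` : `x` an isometry of prime order with `dim (fx x) = 3`: an isometry `u` with `u ^ p = 1`, trivial on `mv x`,
  stabilising `fx x`, whose fixed vectors in `fx x` are singular.
-/

set_option autoImplicit false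

namespace Cfsg.Agent.H25.Cov

open Module QuadraticMap

section siegel

variable {F V : Type*} [Field F] [AddCommGroup V] [Module F V] (Q : QuadraticForm F V) (e f : V)

/-- Siegel transformation as a linear map -/
def sgl (t : F) : V →ₗ[F] V :=
  LinearMap.id + (t • ((polarBilin Q) f).smulRight e - t • ((polarBilin Q) e).smulRight f -
    (t ^ 2 * Q f) • ((polarBilin Q) e).smulRight e)

theorem sgl_apply (t : F) (v : V) : sgl Q e f t v =
    v + ((t * polar Q f v) • e - (t * polar Q e v) • f - (t ^ 2 * Q f * polar Q e v) • e) := by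
  simp [sgl, smul_smul]

variable {Q e f}

theorem polar_e_sgl (he : Q e = 0) (hef : polar Q e f = 0) (t : F) (v : V) :
    polar Q e (sgl Q e f t v) = polar Q e v := by
  have hee : polar Q e e = 0 := by rw [polar_self, he]; simp
  rw [sgl_apply, polar_add_right, polar_sub_right, polar_sub_right, polar_smul_right, polar_smul_right,
    polar_smul_right, hee, hef]
  simp

theorem polar_f_sgl (hef : polar Q e f = 0) (t : F) (v : V) :
    polar Q f (sgl Q e f t v) = polar Q f v - 2 * t * Q f * polar Q e v := by
  have hfe : polar Q f e = 0 := by rw [polar_comm]; exact hef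
  have hff : polar Q f f = 2 * Q f := by rw [polar_self]; simp
  rw [sgl_apply, polar_add_right, polar_sub_right, polar_sub_right, polar_smul_right, polar_smul_right,
    polar_smul_right, hfe, hff]
  simp only [smul_eq_mul]
  ring

theorem sgl_sgl (he : Q e = 0) (hef : polar Q e f = 0) (s t : F) (v : V) :
    sgl Q e f s (sgl Q e f t v) = sgl Q e f (s + t) v := by
  rw [sgl_apply Q e f s, polar_e_sgl he hef, polar_f_sgl hef, sgl_apply Q e f t, sgl_apply Q e f (s + t)]
  module

theorem sgl_zero (v : V) : sgl Q e f 0 v = v := by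
  rw [sgl_apply]; simp

/-- Siegel transformation -/
def sg (he : Q e = 0) (hef : polar Q e f = 0) (t : F) : V ≃ₗ[F] V :=
  LinearEquiv.ofLinearMap (sgl Q e f t) (sgl Q e f (-t))
    (by
      apply LinearMap.ext
      intro v
      show sgl Q e f t (sgl Q e f (-t) v) = v
      rw [sgl_sgl he hef, add_neg_cancel, sgl_zero])
    (by
      apply LinearMap.ext
      intro v
      show sgl Q e f (-t) (sgl Q e f t v) = v
      rw [sgl_sgl he hef, neg_add_cancel, sgl_zero])

theorem sg_apply (he : Q e = 0) (hef : polar Q e f = 0) (t : F) (v : V) : sg he hef t v = sgl Q e f t v := rfl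

theorem sg_pow (he : Q e = 0) (hef : polar Q e f = 0) (t : F) (n : ℕ) (v : V) :
    (sg he hef t ^ n) v = sgl Q e f (n * t) v := by
  induction n generalizing v with
  | zero => simp [sgl_zero]
  | succ n ih =>
    rw [pow_succ, LinearEquiv.mul_apply, ih, sg_apply, sgl_sgl he hef]
    congr 1
    push_cast; ring

theorem sg_iso (he : Q e = 0) (hef : polar Q e f = 0) (t : F) : sg he hef t ∈ H957.isoQ Q := by
  intro v
  rw [sg_apply, sgl_apply]
  have h1 : ∀ a b : V, Q (a + b) = Q a + Q b + polar Q a b := fun a b => by rw [polar]; ring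
  have h2 : ((t * polar Q f v) • e - (t * polar Q e v) • f - (t ^ 2 * Q f * polar Q e v) • e) =
      (t * polar Q f v - t ^ 2 * Q f * polar Q e v) • e + (-(t * polar Q e v)) • f := by module
  rw [h2, h1, h1, polar_add_right, polar_smul_right, polar_smul_right, polar_smul_left, polar_smul_right, hef,
    QuadraticMap.map_smul, QuadraticMap.map_smul, he, polar_comm Q v e, polar_comm Q v f]
  simp only [smul_eq_mul]
  ring

end siegel

variable {F V : Type*} [Field F] [Finite F] [AddCommGroup V] [Module F V] [FiniteDimensional F V]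

/-- **regular unipotent element on a three dimensional fixed space** -/
theorem exists_unip {Q : QuadraticForm F V} (h2 : (2 : F) ≠ 0) (hQ : ∀ w, (∀ v, polar Q v w = 0) → w = 0)
    (p : ℕ) [CharP F p] {x : V ≃ₗ[F] V} (hxQ : x ∈ H957.isoQ Q) {l : ℕ} (hl : (l : F) ≠ 0) (hx : x ^ l = 1)
    (h3 : finrank F (fx x) = 3) :
    ∃ u ∈ H957.isoQ Q, u ^ p = 1 ∧ (∀ v ∈ mv x, u v = v) ∧ (∀ v ∈ fx x, u v ∈ fx x) ∧
      ∀ v ∈ fx x, u v = v → Q v = 0 := by
  let q : QuadraticForm F (fx x) := Q.comp (fx x).subtype
  have hq : ∀ v, q v = Q v := fun v => rfl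
  have hpq : ∀ v w, polar q v w = polar Q (v : V) (w : V) := fun v w => rfl
  obtain ⟨e, he0, he⟩ := ClassicalGeometry.SiegelGen.exists_singular h2 q (by omega)
  have hnd : LieClassical.OrthCore.Nondeg q := by
    intro v hv
    apply Subtype.ext
    apply nd_fx hQ hxQ hl hx v.2
    intro w hw
    rw [polar_comm]
    exact hv ⟨w, hw⟩
  obtain ⟨f, hef, hf⟩ := H237.OrthStd.exists_nonsing_perp hnd (by omega) he he0
  have he' : Q (e : V) = 0 := he
  have hef' : polar Q (e : V) (f : V) = 0 := hef
  have hf' : Q (f : V) ≠ 0 := hf
  refine ⟨sg he' hef' 1, sg_iso he' hef' 1, ?_, ?_, ?_, ?_⟩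
  · apply LinearEquiv.ext
    intro v
    rw [sg_pow, CharP.cast_eq_zero, zero_mul, sgl_zero]
    rfl
  · intro v hv
    rw [sg_apply, sgl_apply, polar_fx_mv hxQ e.2 hv, polar_fx_mv hxQ f.2 hv]
    simp
  · intro v hv
    rw [sg_apply, sgl_apply]
    exact Submodule.add_mem _ hv (Submodule.sub_mem _ (Submodule.sub_mem _ (Submodule.smul_mem _ _ e.2)
      (Submodule.smul_mem _ _ f.2)) (Submodule.smul_mem _ _ e.2))
  · intro v hv huv
    rw [sg_apply, sgl_apply, add_eq_left] at huv
    -- `e` and `f` are linearly independent
    have hff : polar Q (f : V) (f : V) = 2 * Q (f : V) := by rw [polar_self]; simp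
    have he1 : polar Q (e : V) v = 0 := by
      have h4 : polar Q (f : V) ((1 * polar Q (f : V) v) • (e : V) - (1 * polar Q (e : V) v) • (f : V) -
          (1 ^ 2 * Q (f : V) * polar Q (e : V) v) • (e : V)) = 0 := by rw [huv]; simp
      rw [polar_sub_right, polar_sub_right, polar_smul_right, polar_smul_right, polar_smul_right,
        polar_comm Q (f : V) (e : V), hef', hff] at h4
      simp only [smul_eq_mul, mul_zero, one_mul, sub_zero, zero_sub, neg_eq_zero] at h4
      rcases mul_eq_zero.1 h4 with h5 | h5
      · exact h5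
      · exact absurd h5 (mul_ne_zero h2 hf')
    have hf1 : polar Q (f : V) v = 0 := by
      rw [he1] at huv
      simp only [mul_zero, zero_smul, sub_zero, one_mul] at huv
      rcases smul_eq_zero.1 huv with h5 | h5
      · exact h5
      · exact absurd (Subtype.ext h5) he0
    -- `v` lies in the radical of the plane `⟨e, v⟩` or is a multiple of `e`
    by_contra hv0
    -- a vector orthogonal to `e`, `f`, `v` in `fx x`: `e`, contradiction to nondegeneracy
    have hv' : (⟨v, hv⟩ : fx x) ≠ 0 := by
      intro h
      apply hv0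
      have : v = 0 := congrArg Subtype.val h
      rw [this, QuadraticMap.map_zero]
    -- `e, f, v` are linearly independent
    have hli : LinearIndependent F ![e, f, ⟨v, hv⟩] := by
      rw [Fintype.linearIndependent_iff]
      intro g hg
      rw [Fin.sum_univ_three] at hg
      simp only [Matrix.cons_val_zero, Matrix.cons_val_one, Matrix.cons_val] at hg
      have hgV : g 0 • (e : V) + g 1 • (f : V) + g 2 • v = 0 := congrArg Subtype.val hg
      have hvv : polar Q v v = 2 * Q v := by rw [polar_self]; simp
      have h6 : g 1 = 0 := by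
        have h7 : polar Q (f : V) (g 0 • (e : V) + g 1 • (f : V) + g 2 • v) = 0 := by rw [hgV]; simp
        rw [polar_add_right, polar_add_right, polar_smul_right, polar_smul_right, polar_smul_right,
          polar_comm Q (f : V) (e : V), hef', hff, hf1] at h7
        simp only [smul_eq_mul, mul_zero, zero_add, add_zero] at h7
        exact (mul_eq_zero.1 h7).resolve_right (mul_ne_zero h2 hf')
      have h8 : g 2 = 0 := by
        have h7 : polar Q v (g 0 • (e : V) + g 1 • (f : V) + g 2 • v) = 0 := by rw [hgV]; simp
        rw [polar_add_right, polar_add_right, polar_smul_right, polar_smul_right, polar_smul_right,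
          polar_comm Q v (e : V), polar_comm Q v (f : V), he1, hf1, hvv] at h7
        simp only [smul_eq_mul, mul_zero, zero_add] at h7
        exact (mul_eq_zero.1 h7).resolve_right (mul_ne_zero h2 hv0)
      have h9 : g 0 = 0 := by
        rw [h6, h8, zero_smul, zero_smul, add_zero, add_zero] at hgV
        exact (smul_eq_zero.1 hgV).resolve_right (fun h => he0 (Subtype.ext h))
      intro i
      fin_cases i
      · exact h9
      · exact h6
      · exact h8
    have hspan : Submodule.span F (Set.range ![e, f, ⟨v, hv⟩]) = ⊤ := by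
      apply Submodule.eq_top_of_finrank_eq
      rw [finrank_span_eq_card hli, h3]
      rfl
    apply he0
    apply Subtype.ext
    apply nd_fx hQ hxQ hl hx e.2
    intro w hw
    have hwm : (⟨w, hw⟩ : fx x) ∈ Submodule.span F (Set.range ![e, f, ⟨v, hv⟩]) := by rw [hspan]; trivial
    have hgen : ∀ z ∈ Submodule.span F (Set.range ![e, f, ⟨v, hv⟩]), polar Q (z : V) (e : V) = 0 := by
      intro z hz
      induction hz using Submodule.span_induction with
      | mem z hz =>
        obtain ⟨i, rfl⟩ := hz
        fin_cases i
        · show polar Q (e : V) (e : V) = 0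
          rw [polar_self, he']; simp
        · show polar Q (f : V) (e : V) = 0
          rw [polar_comm]; exact hef'
        · show polar Q v (e : V) = 0
          rw [polar_comm]; exact he1
      | zero => simp
      | add a b _ _ ha hb => rw [Submodule.coe_add, polar_add_left, ha, hb, add_zero]
      | smul c a _ ha => rw [Submodule.coe_smul, polar_smul_left, ha, smul_zero]
    exact hgen _ hwm

end Cfsg.Agent.H25.Cov
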